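import Groth.Agent.EulerChar.Curve
import Groth.Agent.CohTop.Vanishing
import Groth.Agent.Props.GenLocus

/-!
# Sections of invertible modules of degree zero on proper integral curves
-/

universe u

open CategoryTheory CategoryTheory.Limits AlgebraicGeometry TopologicalSpace
open Groth.Agent.Props.GenLocus

set_option linter.style.haveILetI false

namespace Groth.Agent.CurveSimple

variable {X : Scheme.{u}} (k : Type u) [Field k] [X.Over (Spec (CommRingCat.of k))]
  [IsProper (X ↘ Spec (CommRingCat.of k))] [IsIntegral X] (hdim : topologicalKrullDim X = 1)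
include k hdim

lemma subsingleton_HH_two (M : X.Modules) {n : ℕ} (hn : 2 ≤ n) : Subsingleton (Coh.HH X M n) := by
  haveI := EulerChar.isNoetherian k (X := X)
  exact CohTop.Vanishing.grothendieck_vanishing (X := X.toPresheafedSpace.carrier) 1 (by rw [hdim]; simp)
    (Coh.toAb M) n (by omega)

lemma euler_eq (M : X.Modules) :
    Curv2.euler k X M = (Module.finrank k (Coh.HH X M 0) : ℤ) - Module.finrank k (Coh.HH X M 1) := by
  rw [EulerChar.euler_eq_sum k (fun n hn => subsingleton_HH_two k hdim M hn)]
  simp [Finset.sum_range_succ]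
  ring

omit k hdim in
lemma exists_hom_ne_zero {L : X.Modules} (h : Nontrivial (Coh.HH X L 0)) :
    ∃ s : Coh.structureModule X ⟶ L, s ≠ 0 := by
  let e : Coh.HH X L 0 ≃+ Γ(L, ⊤) := Sheaf.H.equiv₀ (Coh.toAb L) Limits.isTerminalTop
  obtain ⟨y, hy⟩ := exists_ne (0 : Coh.HH X L 0)
  refine ⟨homOfSec (e y), fun h0 => hy (e.injective ?_)⟩
  have h1 := sec_homOfSec (e y) ⊤
  rw [h0, show QCoh.res L (le_top : (⊤ : X.Opens) ≤ ⊤) (e y) = e y from QCoh.res_self _ _ _] at h1
  rw [map_zero, ← h1]
  rfl

/-- Nonnegative degree when there is a section, and triviality in degree zero. -/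
theorem deg_nonneg_of_hom {L : X.Modules} (hL : PicF.IsInvertible L) (s : Coh.structureModule X ⟶ L)
    (hs : s ≠ 0) :
    0 ≤ Curv2.deg k X L 1 ∧ (Curv2.deg k X L 1 = 0 → Nonempty (L ≅ Coh.structureModule X)) := by
  have h := EulerChar.euler_le_of_ne_zero (PicLoc.isInvertible_structureModule X) hL s hs k hdim
  simp only [Curv2.deg, Nat.cast_one, one_mul]
  refine ⟨by linarith [h.1], fun h0 => ?_⟩
  haveI := h.2 (by linarith)
  exact ⟨(asIso s).symm⟩

end Groth.Agent.CurveSimple
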