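import Groth.Agent.CurveSimple.ToP1
import Groth.Agent.ProjTwist.Pn.GlobGen
import Groth.Agent.ProjForm.Theta
import Groth.Agent.ProjForm.Unit
import Groth.Agent.Omega.ProdDiff
import Groth.Agent.CMReg.Closed
import Groth.Agent.ProperFin.FiniteMap
import Groth.Agent.ProjMorph.VeryAmple
import Groth.Agent.QCoh.Exact
import Groth.Agent.QCoh.Pullback
import Groth.Agent.CohLin.Basic
import Groth.Agent.Omega.Stalks

/-!
# Linear systems with vanishing `H¹(O)` embed
-/

universe u

open CategoryTheory CategoryTheory.Limits AlgebraicGeometry TopologicalSpace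
open Groth.Agent.Props.GenLocus Groth.Agent.QCoh Groth.Agent.AmpleLib Groth.Agent.PullStalk.Sky Groth.Agent.PullStalk.Exact

set_option linter.style.haveILetI false
set_option linter.unusedSectionVars false
set_option synthInstance.maxHeartbeats 200000
set_option maxHeartbeats 3000000
set_option backward.isDefEq.respectTransparency false
set_option backward.isDefEq.respectTransparency.types false

noncomputable section

namespace Groth.Agent.CurveSimple

variable {X : Scheme.{u}} (k : Type u) [Field k] [X.Over (Spec (CommRingCat.of k))]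
  [IsProper (X ↘ Spec (CommRingCat.of k))] [IsIntegral X]

include k in
/-- A nonconstant map out of a proper integral curve is finite. -/
theorem isFinite_of_nonconstant {Y : Scheme.{u}} (φ : X ⟶ Y) [IsProper φ]
    (hdim : topologicalKrullDim X = 1) (hnc : ¬ IsClosed ({φ (genericPoint X)} : Set Y)) : IsFinite φ := by
  haveI := EulerChar.compactSpace k (X := X)
  have hcl : ∀ x : X, x ≠ genericPoint X → IsClosed ({φ x} : Set Y) := fun x hx => by
    rw [← Set.image_singleton]
    exact φ.isClosedMap _ (VarDim.isClosed_singleton_of_ne_genericPoint k hdim hx)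
  haveI := LocallyQuasiFinite.of_finite_preimage_singleton φ fun y => by
    by_cases hy : y = φ (genericPoint X)
    · refine (Set.finite_singleton (genericPoint X)).subset fun x hx => ?_
      by_contra hne
      exact hnc (hy ▸ (show φ x = y from hx) ▸ hcl x hne)
    · by_cases hyc : IsClosed ({y} : Set Y)
      · exact VarDim.finite_of_isClosed k hdim (hyc.preimage φ.continuous) fun h => hy h.symm
      · refine Set.finite_empty.subset fun x hx => hyc ?_
        rw [← show φ x = y from hx]
        exact hcl x fun e => hy (by rw [← show φ x = y from hx, e])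
  exact IsFinite.of_isProper_of_locallyQuasiFinite _

theorem app_sum_apply {Y : Scheme.{u}} {A B : Y.Modules} {ι : Type*} (t : Finset ι) (f : ι → (A ⟶ B))
    (U : Y.Opens) (z : Γ(A, U)) : (∑ j ∈ t, f j).app U z = ∑ j ∈ t, (f j).app U z := by
  classical
  induction t using Finset.induction with
  | empty => simp
  | insert a t ha ih =>
    rw [Finset.sum_insert ha, Finset.sum_insert ha, ← ih]
    rfl

/-- Cancelling an inverse pair after pulling back. -/
def structIso {X Y : Scheme.{u}} (φ : X ⟶ Y) {T : Y.Modules} {L : X.Modules}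
    (τ : (Scheme.Modules.pullback φ).obj T ≅ L) (N : Y.Modules)
    (e : Coh.structureModule Y ≅ CohB1.tensorMod T N) :
    Coh.structureModule X ≅ CohB1.tensorMod L ((Scheme.Modules.pullback φ).obj N) :=
  (QCoh.pullbackUnitIso φ).symm ≪≫ (Scheme.Modules.pullback φ).mapIso e ≪≫
    KFlat.PullTensor.pullTensorIso φ T N ≪≫
      ((ModSite.tensorBi X.sheaf).mapIso τ).app ((Scheme.Modules.pullback φ).obj N)

/-- A generating linear system containing all sections embeds a curve with `H¹(O) = 0`. -/
theorem exists_closedImmersion (hdim : topologicalKrullDim X = 1)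
    (h1 : Subsingleton (Coh.HH X (Coh.structureModule X) 1))
    {L : X.Modules} (hL : PicF.IsInvertible L) (hdeg : Curv2.deg k X L 1 ≠ 0) {n : ℕ}
    (s : Fin (n + 1) → ProjUP.Γm L) (hs : ProjUP.GeneratedBy L s)
    (hspan : ∀ σ : Γ(L, ⊤), ∃ c : Fin (n + 1) → k,
      σ = ∑ j, ProjUP.toGlobal (X ↘ Spec (CommRingCat.of k)) (c j) • (show Γ(L, ⊤) from s j)) :
    ∃ i : X ⟶ CohB1.ProjSpace n k, IsClosedImmersion i ∧
      i ≫ CohB1.ProjSpace.toSpec n k = X ↘ Spec (CommRingCat.of k) ∧
      Nonempty ((Scheme.Modules.pullback i).obj (Twist.twistProjSpace n k 1) ≅ L) := by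
  obtain ⟨φ, τ, hr, hpre, hcoef, -⟩ := ProjMorph.exists_to_proj (R := k)
    («𝒜» := CohB1.polyGrading n k) (MvPolynomial.X : Fin (n + 1) → MvPolynomial (Fin (n + 1)) k)
    (SepTang48.X_mem k n) MvPolynomial.adjoin_range_X (ProjUP.toGlobal (X ↘ Spec (CommRingCat.of k))) hL s hs
    (fun i c _ => ⟨MvPolynomial.eval₂Hom ((QCoh.rres le_top).hom.comp
        (ProjUP.toGlobal (X ↘ Spec (CommRingCat.of k)))) c,
      RingHom.ext fun a => MvPolynomial.eval₂Hom_C _ _ a, fun j => MvPolynomial.eval₂Hom_X' _ _ _⟩)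
  have hφ : φ ≫ CohB1.ProjSpace.toSpec n k = X ↘ Spec (CommRingCat.of k) :=
    hr.trans (ProjMorph.toSpecΓ_toGlobal _)
  haveI := EulerChar.isLocallyNoetherian k (X := X)
  haveI := ProjProper.Basic.isProper_toSpec n k
  haveI : IsProper φ := by
    haveI : IsProper (φ ≫ CohB1.ProjSpace.toSpec n k) := hφ ▸ inferInstance
    exact IsProper.of_comp φ (CohB1.ProjSpace.toSpec n k)
  have hnc : ¬ IsClosed ({φ (genericPoint X)} : Set (CohB1.ProjSpace n k)) := by
    intro hcl
    refine hdeg ?_
    have hall : ∀ x : X, φ x = φ (genericPoint X) := fun x => by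
      have hx : x ∈ φ ⁻¹' {φ (genericPoint X)} := by
        refine (hcl.preimage φ.continuous).closure_subset_iff.2 (Set.singleton_subset_iff.2 rfl) ?_
        rw [(genericPoint_spec X).def]; trivial
      exact hx
    obtain ⟨i, hi⟩ := Opens.mem_iSup.1
      ((SepTang48.iSup_D k n).ge (trivial : φ (genericPoint X) ∈ (⊤ : (CohB1.ProjSpace n k).Opens)))
    have htop : locus (O := ⊤) (s i) = ⊤ := by
      rw [← hpre i]
      exact eq_top_iff.2 fun x _ => show φ x ∈ SepTang48.D k n i from (hall x).symm ▸ hi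
    have hg' : IsGen L ⊤ (s i) := by
      have h := (isGen_locus (M := L) (O := ⊤) (s i)).restrict (htop.ge)
      rwa [res_res, res_self] at h
    obtain ⟨e⟩ := ProjMorph.exists_iso_of_gen_top hg'
    rw [Curv2.deg, ← EulerChar.euler_iso k e]
    simp
  haveI := isFinite_of_nonconstant k φ hdim hnc
  let P := CohB1.ProjSpace n k
  letI : P.Over (Spec (CommRingCat.of k)) := ⟨CohB1.ProjSpace.toSpec n k⟩
  let F : P.Modules := (Scheme.Modules.pushforward φ).obj L
  have hLc : Coh.IsCoh L := VBLib.isCoh_of_ofRank (ProjTwist.isFinLocFreeOfRank_one hL)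
  have hFc : Coh.IsCoh F := ProperFin.isCoh_push_of_isFinite φ L hLc
  haveI : L.IsQuasicoherent := hLc.1
  haveI : F.IsQuasicoherent := hFc.1
  -- regularity
  have hreg : Curv2.IsMRegular k n F 0 := by
    intro q hq _
    let N := Twist.twistProjSpace n k ((0 : ℤ) - q)
    have hN : PicF.IsInvertible N := ProjTwist.isInvertible_twistProjSpace n k _
    haveI := ProjForm.isIso_θ_of_isFinLocFree φ L (ProjForm.isFinLocFree_of_isInvertible hN)
    let M := CohB1.tensorMod L ((Scheme.Modules.pullback φ).obj N)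
    have hM : PicF.IsInvertible M :=
      AmpleLib.isInvertible_tensorMod hL (PicCl.isInvertible_pullback φ hN)
    haveI : Coh.IsQCoh M := (VBLib.isCoh_of_ofRank (ProjTwist.isFinLocFreeOfRank_one hM)).1
    have hsub : Subsingleton (Coh.HH X M q) := by
      rcases Nat.lt_or_ge q 2 with h | h
      · obtain rfl : q = 1 := by omega
        obtain ⟨e₁⟩ := ProjTwist.nonempty_twistProjSpace_tensor n k 1 ((0 : ℤ) - (1 : ℕ))
        let z : Coh.structureModule P ≅ Twist.twistProjSpace n k 0 :=
          ProjTwist.twistZeroIso (CohB1.polyGrading n k)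
        let w : Twist.twistProjSpace n k 0 ≅ Twist.twistProjSpace n k (1 + (0 - (1 : ℕ))) :=
          eqToIso (congrArg (Twist.twistProjSpace n k) (show (0 : ℤ) = 1 + (0 - (1 : ℕ)) by norm_num))
        exact (CohLin.hIso (structIso φ τ N (z ≪≫ w ≪≫ e₁.symm)) 1).symm.injective.subsingleton
      · exact subsingleton_HH_two k hdim M h
    haveI : Subsingleton (Coh.HH P ((KFlat.ProjFormula.G₂ φ L).obj N) q) :=
      (CMReg.subsingleton_push_iff φ M q).2 hsub
    exact @Function.Injective.subsingleton _ _ _ (CohLin.hIso (asIso ((KFlat.ProjFormula.θ φ L).app N)) q).injective this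
  have hgs : ∀ y : P, ProjTwist.globSpan F y = ⊤ := fun y =>
    ProjTwist.globSpan_eq_top_of_epi (ProjTwist.tensOne F).hom y
      (ProjTwist.globSpan_eq_top_of_epi (((DCoh.tensorBi (X := P)).obj F).map
          (ProjTwist.twistZeroIso (CohB1.polyGrading n k)).inv) y
        (ProjTwist.Pn.globSpan_of_isMRegular hFc hreg y))
  -- the sections give an epimorphism
  let g : ULift.{u} (Fin (n + 1)) → (Coh.structureModule P ⟶ F) := fun j => homOfSec (show Γ(F, ⊤) from s j.down)
  let p : (⨁ fun _ : ULift.{u} (Fin (n + 1)) => Coh.structureModule P) ⟶ F := biproduct.desc g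
  have hp : Epi p := Omega.Stalks.epi_of_stalk fun y t => by
    suffices H : ProjTwist.globSpan F y ≤ LinearMap.range (stalkLin p y) from
      H (hgs y ▸ Submodule.mem_top)
    rw [ProjTwist.globSpan, Submodule.span_le]
    rintro _ ⟨σ, rfl⟩
    obtain ⟨c, hc⟩ := hspan σ
    have hσ : σ = ∑ j, ProperFin.glob k P (c j) • (show Γ(F, ⊤) from s j) := by
      refine hc.trans (Finset.sum_congr rfl fun j _ => ?_)
      refine Eq.trans ?_ (ProperFin.push_smul' φ L (ProperFin.glob k P (c j)) (show Γ(L, φ ⁻¹ᵁ ⊤) from s j)).symm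
      exact congrArg (fun r : Γ(X, ⊤) => r • (show Γ(L, ⊤) from s j))
        (ProperFin.toGlobal_comp (Y := P) φ hφ (c j)).symm
    simp only [hσ, map_sum]
    refine Submodule.sum_mem _ fun j _ => ?_
    show germM F ⊤ y trivial (ProperFin.glob k P (c j) • (show Γ(F, ⊤) from s j)) ∈ LinearMap.range (stalkLin p y)
    rw [germM_smul]
    refine Submodule.smul_mem _ _ ⟨stalkLin (biproduct.ι (fun _ : ULift.{u} (Fin (n + 1)) => Coh.structureModule P) ⟨j⟩) y
      (germM (Coh.structureModule P) ⊤ y trivial (1 : Γ(P, ⊤))), ?_⟩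
    rw [← Omega.Stalks.stalkLin_comp, biproduct.ι_desc]
    refine (stalkLin_germ (g ⟨j⟩) ⊤ y trivial _).trans (congrArg _ ?_)
    exact (sec_homOfSec _ ⊤).trans (res_self _ _ _)
  -- surjectivity on the standard pieces
  refine ⟨φ, ?_, hφ, ⟨τ⟩⟩
  rw [IsZariskiLocalAtTarget.iff_of_iSup_eq_top (P := @IsClosedImmersion) _ (SepTang48.iSup_D k n)]
  intro i
  set D := SepTang48.D k n i
  have hD : IsAffineOpen D := SepTang48.isAffineOpen_D k n i
  haveI : IsAffine D.toScheme := hD
  haveI : IsAffine (φ ⁻¹ᵁ D).toScheme := hD.preimage φ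
  refine IsClosedImmersion.of_surjective_of_isAffine _
    (ProjMorph.surjective_appTop_morphismRestrict φ D fun a => ?_)
  have hgen : IsGen L (φ ⁻¹ᵁ D) (res L le_top (s i)) := by
    have h := (isGen_locus (M := L) (O := ⊤) (s i)).restrict (W := φ ⁻¹ᵁ D) (hpre i).le
    rwa [res_res] at h
  haveI := hp
  haveI : (⨁ fun _ : ULift.{u} (Fin (n + 1)) => Coh.structureModule P).IsQuasicoherent :=
    VBLib.isQuasicoherent_of_iso (biproduct.isoCoproduct (fun _ : ULift.{u} (Fin (n + 1)) => Coh.structureModule P)).symm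
      (QCoh.isQuasicoherent_coproduct _)
  obtain ⟨z, hz⟩ := QCoh.app_surjective_of_epi p hD
    (show Γ(F, D) from a • res L (le_top : φ ⁻¹ᵁ D ≤ ⊤) (s i))
  let r : ULift.{u} (Fin (n + 1)) → Γ(P, D) := fun j => (biproduct.π (fun _ : ULift.{u} (Fin (n + 1)) => Coh.structureModule P) j).app D z
  let ρ : ULift.{u} (Fin (n + 1)) → Γ(P, D) := fun j =>
    ProjMorph.ratio (SepTang48.X_mem k n i) (SepTang48.X_mem k n j.down)
  refine ⟨∑ j, r j * ρ j, hgen.injective le_rfl ?_⟩
  have hdesc : biproduct.desc g = ∑ j, biproduct.π (fun _ : ULift.{u} (Fin (n + 1)) => Coh.structureModule P) j ≫ g j :=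
    biproduct.hom_ext' _ _ fun j => by
      classical
      rw [biproduct.ι_desc, Preadditive.comp_sum, Finset.sum_eq_single j
        (fun b _ hb => by rw [biproduct.ι_π_ne_assoc _ hb.symm, zero_comp])
        (fun h => absurd (Finset.mem_univ j) h), biproduct.ι_π_self_assoc]
  simp only [p] at hz
  rw [hdesc, app_sum_apply] at hz
  rw [res_self, map_sum, Finset.sum_smul]
  refine Eq.trans (Finset.sum_congr rfl fun j _ => ?_) hz
  rw [map_mul, mul_smul, ← hcoef i j.down]
  change _ = (g j).app D (r j)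
  refine Eq.trans ?_ (app_eq (g j) D (r j)).symm
  rw [sec_homOfSec]
  rfl

end Groth.Agent.CurveSimple
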