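import Groth.Agent.CurveSimple.VeryAmpleClosed
import Groth.Agent.CurveSimple.Embed
import Groth.Agent.ParaFLib.QSepBC
import Groth.Agent.FpqcDesc.Props
import Groth.Agent.S4642
import Groth.Agent.S7673

/-!
# Complete linear systems which embed after extending the base field
-/

universe u

open CategoryTheory CategoryTheory.Limits AlgebraicGeometry TopologicalSpace
open Groth.Agent.Props.GenLocus Groth.Agent.QCoh Groth.Agent.AmpleLib
open scoped TensorProduct

set_option linter.style.haveILetI false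
set_option linter.unusedSectionVars false
set_option synthInstance.maxHeartbeats 200000
set_option maxHeartbeats 2000000
set_option backward.isDefEq.respectTransparency false
set_option backward.isDefEq.respectTransparency.types false

noncomputable section

namespace Groth.Agent.CurveSimple

variable {X : Scheme.{u}} (k : Type u) [Field k] [X.Over (Spec (CommRingCat.of k))]
  [IsProper (X ↘ Spec (CommRingCat.of k))] [IsIntegral X]

/-- The finite morphism of a generated invertible module of nonzero degree. -/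
theorem exists_finite_morph (hdim : topologicalKrullDim X = 1)
    {L : X.Modules} (hL : PicF.IsInvertible L) (hdeg : Curv2.deg k X L 1 ≠ 0) {n : ℕ}
    (s : Fin (n + 1) → ProjUP.Γm L) (hs : ProjUP.GeneratedBy L s) :
    ∃ φ : X ⟶ CohB1.ProjSpace n k, IsFinite φ ∧
      φ ≫ CohB1.ProjSpace.toSpec n k = X ↘ Spec (CommRingCat.of k) ∧
      Nonempty ((Scheme.Modules.pullback φ).obj (Twist.twistProjSpace n k 1) ≅ L) ∧
      (∀ i, IsGen L (φ ⁻¹ᵁ SepTang48.D k n i) (res L le_top (s i))) ∧
      ∀ i j, ∃ g, res L (le_top : φ ⁻¹ᵁ SepTang48.D k n i ≤ ⊤) (s j) =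
        φ.app (SepTang48.D k n i) g • res L le_top (s i) := by
  obtain ⟨φ, τ, hr, hpre, hcoef, -⟩ := ProjMorph.exists_to_proj (R := k)
    («𝒜» := CohB1.polyGrading n k) (MvPolynomial.X : Fin (n + 1) → MvPolynomial (Fin (n + 1)) k)
    (SepTang48.X_mem k n) MvPolynomial.adjoin_range_X (ProjUP.toGlobal (X ↘ Spec (CommRingCat.of k))) hL s hs
    (fun i c _ => ⟨MvPolynomial.eval₂Hom ((QCoh.rres le_top).hom.comp
        (ProjUP.toGlobal (X ↘ Spec (CommRingCat.of k)))) c,
      RingHom.ext fun a => MvPolynomial.eval₂Hom_C _ _ a, fun j => MvPolynomial.eval₂Hom_X' _ _ _⟩)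
  have hφ : φ ≫ CohB1.ProjSpace.toSpec n k = X ↘ Spec (CommRingCat.of k) :=
    hr.trans (ProjMorph.toSpecΓ_toGlobal _)
  haveI := ProjProper.Basic.isProper_toSpec n k
  haveI : IsProper φ := by
    haveI : IsProper (φ ≫ CohB1.ProjSpace.toSpec n k) := hφ ▸ inferInstance
    exact IsProper.of_comp φ (CohB1.ProjSpace.toSpec n k)
  have hnc : ¬ IsClosed ({φ (genericPoint X)} : Set (CohB1.ProjSpace n k)) := by
    intro hcl
    refine hdeg ?_
    have hall : ∀ x : X, φ x = φ (genericPoint X) := fun x => by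
      have hx : x ∈ φ ⁻¹' {φ (genericPoint X)} := by
        refine (hcl.preimage φ.continuous).closure_subset_iff.2 (Set.singleton_subset_iff.2 rfl) ?_
        rw [(genericPoint_spec X).def]; trivial
      exact hx
    obtain ⟨i, hi⟩ := Opens.mem_iSup.1
      ((SepTang48.iSup_D k n).ge (trivial : φ (genericPoint X) ∈ (⊤ : (CohB1.ProjSpace n k).Opens)))
    have htop : locus (O := ⊤) (s i) = ⊤ := by
      rw [← hpre i]
      exact eq_top_iff.2 fun x _ => show φ x ∈ SepTang48.D k n i from (hall x).symm ▸ hi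
    have hg' : IsGen L ⊤ (s i) := by
      have h := (isGen_locus (M := L) (O := ⊤) (s i)).restrict (htop.ge)
      rwa [res_res, res_self] at h
    obtain ⟨e⟩ := ProjMorph.exists_iso_of_gen_top hg'
    rw [Curv2.deg, ← EulerChar.euler_iso k e]
    simp
  refine ⟨φ, isFinite_of_nonconstant k φ hdim hnc, hφ, ⟨τ⟩, fun i => ?_, fun i j => ⟨_, hcoef i j⟩⟩
  have h := (isGen_locus (M := L) (O := ⊤) (s i)).restrict (W := φ ⁻¹ᵁ SepTang48.D k n i) (hpre i).le
  rwa [res_res] at h

/-- A complete linear system embeds if it separates after passing to the algebraic closure. -/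
theorem exists_closedImmersion_of_bc [GeometricallyIntegral (X ↘ Spec (CommRingCat.of k))]
    (hdim : topologicalKrullDim X = 1)
    {L : X.Modules} (hL : PicF.IsInvertible L) (hdeg : Curv2.deg k X L 1 ≠ 0) {n : ℕ}
    (s : Fin (n + 1) → ProjUP.Γm L) (hs : ProjUP.GeneratedBy L s)
    (hspan : ∀ σ : Γ(L, ⊤), ∃ c : Fin (n + 1) → k,
      σ = ∑ j, ProjUP.toGlobal (X ↘ Spec (CommRingCat.of k)) (c j) • (show Γ(L, ⊤) from s j))
    (hns : letI : (Curv2.bc k X (AlgebraicClosure k)).Over (Spec (CommRingCat.of (AlgebraicClosure k))) :=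
        ⟨Curv2.bcSnd k X (AlgebraicClosure k)⟩
      IsTwoNonspecial (AlgebraicClosure k)
        ((Scheme.Modules.pullback (Curv2.bcFst k X (AlgebraicClosure k))).obj L)) :
    ∃ i : X ⟶ CohB1.ProjSpace n k, IsClosedImmersion i ∧
      i ≫ CohB1.ProjSpace.toSpec n k = X ↘ Spec (CommRingCat.of k) ∧
      Nonempty ((Scheme.Modules.pullback i).obj (Twist.twistProjSpace n k 1) ≅ L) := by
  obtain ⟨φ, hfin, hφ, hτ, hgen, hcoef⟩ := exists_finite_morph k hdim hL hdeg s hs
  refine ⟨φ, ?_, hφ, hτ⟩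
  haveI := hfin
  haveI := ProjProper.Basic.isProper_toSpec n k
  let P := CohB1.ProjSpace n k
  letI : P.Over (Spec (CommRingCat.of k)) := ⟨CohB1.ProjSpace.toSpec n k⟩
  -- every section is linear over the coordinates
  have hlin : ∀ (σ : Γ(L, ⊤)) (i : Fin (n + 1)), ∃ g, res L (le_top : φ ⁻¹ᵁ SepTang48.D k n i ≤ ⊤) σ =
      φ.app (SepTang48.D k n i) g • res L le_top (s i) := by
    intro σ i
    obtain ⟨c, hc⟩ := hspan σ
    choose r hr using hcoef i
    refine ⟨∑ j, rres le_top (ProperFin.glob k P (c j)) * r j, ?_⟩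
    rw [hc, map_sum, map_sum, Finset.sum_smul]
    refine Finset.sum_congr rfl fun j _ => ?_
    rw [res_smul, map_mul, mul_smul, ← hr j, Props.GenPull.app_rres, ProperFin.toGlobal_comp (Y := P) φ hφ (c j)]
    rfl
  -- base change
  let K := AlgebraicClosure k
  let g := Spec.map (CommRingCat.ofHom (algebraMap k K))
  let X' := Curv2.bc k X K
  let P' := pullback (CohB1.ProjSpace.toSpec n k) g
  let p : X' ⟶ X := Curv2.bcFst k X K
  let q : X' ⟶ Spec (CommRingCat.of K) := Curv2.bcSnd k X K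
  let π : P' ⟶ P := pullback.fst _ _
  let φ' : X' ⟶ P' := pullback.lift (p ≫ φ) q (by rw [Category.assoc, hφ]; exact pullback.condition)
  have h1 : φ' ≫ π = p ≫ φ := pullback.lift_fst _ _ _
  have h2 : φ' ≫ pullback.snd _ g = q := pullback.lift_snd _ _ _
  have hX : IsPullback p q (X ↘ Spec (CommRingCat.of k)) g := IsPullback.of_hasPullback _ _
  have hsq : IsPullback p φ' φ π := by
    refine IsPullback.of_bot ?_ h1.symm (IsPullback.of_hasPullback (CohB1.ProjSpace.toSpec n k) g)
    rw [hφ, h2]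
    exact hX
  haveI : IsIntegral X' := inferInstance
  letI : X'.Over (Spec (CommRingCat.of K)) := ⟨q⟩
  letI : P'.Over (Spec (CommRingCat.of K)) := ⟨pullback.snd _ g⟩
  haveI : IsProper (X' ↘ Spec (CommRingCat.of K)) :=
    (inferInstance : IsProper (pullback.snd (X ↘ Spec (CommRingCat.of k)) g))
  haveI : LocallyOfFiniteType (P' ↘ Spec (CommRingCat.of K)) :=
    (inferInstance : LocallyOfFiniteType (pullback.snd (CohB1.ProjSpace.toSpec n k) g))
  haveI : IsFinite φ' := MorphismProperty.of_isPullback hsq hfin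
  haveI : IsAffineHom g := isAffineHom_of_isAffine _
  haveI : IsAffineHom π := MorphismProperty.pullback_fst _ _ inferInstance
  haveI : Surjective g := ⟨fun y => ⟨IsLocalRing.closedPoint K, Subsingleton.elim _ _⟩⟩
  haveI : Flat g := AlgebraicGeometry.Flat.SpecMap_iff.2 (RingHom.flat_algebraMap_iff.2 inferInstance)
  have hdK : topologicalKrullDim X' = 1 := (S4642.result (K := K) (X ↘ Spec (CommRingCat.of k))).trans hdim
  have hle : ∀ i, φ' ⁻¹ᵁ (π ⁻¹ᵁ SepTang48.D k n i) = p ⁻¹ᵁ (φ ⁻¹ᵁ SepTang48.D k n i) := fun i => by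
    rw [← Scheme.Hom.comp_preimage, h1, Scheme.Hom.comp_preimage]
  let L' := (Scheme.Modules.pullback p).obj L
  let e : ∀ i, Γ(L', φ' ⁻¹ᵁ (π ⁻¹ᵁ SepTang48.D k n i)) := fun i =>
    LimTop.unitSec p L (hle i).le (res L le_top (s i))
  have hgen' : ∀ i, IsGen L' (φ' ⁻¹ᵁ (π ⁻¹ᵁ SepTang48.D k n i)) (e i) := fun i =>
    (Props.GenPull.isGen_pb p (hgen i)).restrict (hle i).le
  have hK : IsClosedImmersion φ' := by
    refine isClosedImmersion_of_lin K hdK φ' h2 (PicCl.isInvertible_pullback p hL) hns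
      (fun i => π ⁻¹ᵁ SepTang48.D k n i) (fun i => (SepTang48.isAffineOpen_D k n i).preimage π)
      (by rw [← π.preimage_iSup, SepTang48.iSup_D, π.preimage_top]) e hgen' fun τ i => ?_
    -- linearity after base change
    haveI : L.IsQuasicoherent := ProjTwist.isQCoh_of_isInvertible hL
    have hT : (⊤ : (Spec (CommRingCat.of K)).Opens) ≤ g ⁻¹ᵁ ⊤ := fun _ _ => trivial
    letI := (g.appLE ⊤ ⊤ hT).hom.toAlgebra
    obtain ⟨z, hz⟩ := (ParaFLib.QSepBC.Φ_bijective (X ↘ Spec (CommRingCat.of k)) g p q L hT hX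
      (isAffineOpen_top _) (isAffineOpen_top _)).2 (res L' le_top τ)
    have hov : φ' ⁻¹ᵁ (π ⁻¹ᵁ SepTang48.D k n i) ≤
        LFDesc.over p q ⊤ ((X ↘ Spec (CommRingCat.of k)) ⁻¹ᵁ ⊤) := fun _ _ => ⟨trivial, trivial⟩
    suffices H : ∀ z, ∃ a, res L' hov (LFDesc.Φ (X ↘ Spec (CommRingCat.of k)) g p q L hT hX.w le_rfl z) =
        φ'.app (π ⁻¹ᵁ SepTang48.D k n i) a • e i by
      obtain ⟨a, ha⟩ := H z
      exact ⟨a, by rw [← ha, hz, res_res]⟩
    intro z
    induction z using TensorProduct.induction_on with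
    | zero => exact ⟨0, by rw [map_zero, map_zero, map_zero, zero_smul]⟩
    | add a b ha hb =>
      obtain ⟨a', ha'⟩ := ha
      obtain ⟨b', hb'⟩ := hb
      exact ⟨a' + b', by rw [map_add, map_add, ha', hb', map_add, add_smul]⟩
    | tmul b m =>
      obtain ⟨r, hr⟩ := hlin (show Γ(L, ⊤) from m) i
      refine ⟨(pullback.snd (CohB1.ProjSpace.toSpec n k) g).appLE ⊤ (π ⁻¹ᵁ SepTang48.D k n i) le_top b *
        π.app (SepTang48.D k n i) r, ?_⟩
      rw [LFDesc.Φ_tmul, res_smul, LimTop.res_unitSec, map_mul, mul_smul]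
      have e1 : rres hov (q.appLE ⊤ (LFDesc.over p q ⊤ ((X ↘ Spec (CommRingCat.of k)) ⁻¹ᵁ ⊤)) inf_le_right b) =
          φ'.app (π ⁻¹ᵁ SepTang48.D k n i)
            ((pullback.snd (CohB1.ProjSpace.toSpec n k) g).appLE ⊤ (π ⁻¹ᵁ SepTang48.D k n i) le_top b) := by
        rw [← CommRingCat.comp_apply, ← CommRingCat.comp_apply, Scheme.Hom.appLE_map, Scheme.Hom.app_eq_appLE,
          Scheme.Hom.appLE_comp_appLE]
        simp only [h2]
      have e2 : φ'.app (π ⁻¹ᵁ SepTang48.D k n i) (π.app (SepTang48.D k n i) r) =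
          p.appLE (φ ⁻¹ᵁ SepTang48.D k n i) (φ' ⁻¹ᵁ (π ⁻¹ᵁ SepTang48.D k n i)) (hle i).le
            (φ.app (SepTang48.D k n i) r) := by
        rw [← CommRingCat.comp_apply, ← CommRingCat.comp_apply, Scheme.Hom.app_eq_appLE, Scheme.Hom.app_eq_appLE,
          Scheme.Hom.app_eq_appLE, Scheme.Hom.appLE_comp_appLE, Scheme.Hom.appLE_comp_appLE]
        simp only [h1]
        rfl
      rw [e2, ← e1]
      refine congrArg (_ • ·) ?_
      show _ = _ • LimTop.unitSec p L (hle i).le (res L le_top (s i))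
      rw [← LimTop.unitSec_smul, ← hr, LimTop.unitSec_res]
      rfl
  haveI := FpqcDesc.descendsAlong_isClosedImmersion.{u}
  exact MorphismProperty.of_isPullback_of_descendsAlong (P := @IsClosedImmersion)
    (Q := @Surjective ⊓ @Flat ⊓ @QuasiCompact) hsq.flip
    ⟨⟨MorphismProperty.of_isPullback (IsPullback.of_hasPullback _ g).flip inferInstance,
      MorphismProperty.of_isPullback (IsPullback.of_hasPullback _ g).flip inferInstance⟩, inferInstance⟩ hK

end Groth.Agent.CurveSimple
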