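import Groth.Agent.CurveSimple.Special
import Groth.Agent.Props.AmpleGG
import Groth.Agent.CMReg.Closed
import Groth.Agent.CohDev.Piece

/-!
# Global generation in degree at least twice the genus on proper integral curves
-/

universe u

open CategoryTheory CategoryTheory.Limits AlgebraicGeometry TopologicalSpace
open Groth.Agent.Props.GenLocus Groth.Agent.CohDev Groth.Agent.PullStalk.Sky Groth.Agent.PullStalk.Exact
open scoped TensorProduct

set_option linter.style.haveILetI false
set_option linter.unusedSectionVars false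
set_option synthInstance.maxHeartbeats 200000
set_option maxHeartbeats 1000000

noncomputable section

namespace Groth.Agent.CurveSimple

variable {X : Scheme.{u}} (k : Type u) [Field k] [X.Over (Spec (CommRingCat.of k))]
  [IsProper (X ↘ Spec (CommRingCat.of k))] [IsIntegral X] (hdim : topologicalKrullDim X = 1)

theorem exists_genLocus_of_deg_ge (hdim : topologicalKrullDim X = 1)
    (h0 : Module.finrank k (Coh.HH X (Coh.structureModule X) 0) = 1)
    {L : X.Modules} (hL : PicF.IsInvertible L)
    (hdeg : 2 * (Curv2.genus k X : ℤ) ≤ Curv2.deg k X L 1) (y : X) :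
    ∃ s : Coh.structureModule X ⟶ CohDev.tens L (Coh.structureModule X),
      y ∈ CohB1.genLocus _ s := by
  haveI := EulerChar.isNoetherian k (X := X)
  have hO := PicLoc.isInvertible_structureModule X
  have hOc := VBLib.isCoh_of_ofRank (ProjTwist.isFinLocFreeOfRank_one hO)
  have hL1 := ProjTwist.isFinLocFreeOfRank_one hL
  have hB : PicF.IsInvertible (CohDev.tens L (Coh.structureModule X)) := AmpleLib.isInvertible_tensorMod hL hO
  have hχ : Curv2.euler k X (CohDev.tens L (Coh.structureModule X)) =
      Curv2.deg k X L 1 + 1 - Curv2.genus k X := by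
    rw [EulerChar.euler_iso k (show CohDev.tens L (Coh.structureModule X) ≅ L from ProjTwist.tensOne L),
      Curv2.deg, euler_structure k hdim h0]
    push_cast; ring
  -- reduce to closed points
  suffices key : ∀ x : X, IsClosed ({x} : Set X) →
      ∃ s : Coh.structureModule X ⟶ CohDev.tens L (Coh.structureModule X),
        x ∈ CohB1.genLocus _ s by
    obtain ⟨x, hx, hxc⟩ : ∃ x, y ⤳ x ∧ IsClosed ({x} : Set X) := by
      haveI := EulerChar.compactSpace k (X := X)
      obtain ⟨x, hx, hxc⟩ := (isClosed_closure : IsClosed (closure ({y} : Set X))).exists_closed_singleton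
        ⟨y, subset_closure rfl⟩
      exact ⟨x, specializes_iff_mem_closure.2 hx, hxc⟩
    obtain ⟨s, hs⟩ := key x hxc
    exact ⟨s, hx.mem_open (CohB1.genLocus _ s).isOpen hs⟩
  intro x hxc
  set Z := IntMult.ptIdeal x
  have hZs : ((Z.support : Set X)) = {x} := (CohDev.coe_support_ptIdeal x).trans hxc.closure_eq
  have hZ : topologicalKrullDim (Z.support : Set X) ≤ 0 :=
    EulerChar.topDim_le_zero_of_finite (hZs ▸ Set.finite_singleton x) fun z hz => by
      rw [hZs, Set.mem_singleton_iff] at hz; subst hz; exact hxc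
  obtain ⟨hF, ⟨i, hi⟩, hFχ⟩ := ideal_tensor k hL Z hZ
  have hT := CohDev.tens_shortExact hL1 (EulerChar.shortExact_ideal Z)
  let S := (ShortComplex.mk (ClSub.idealModι Z) (ClSub.toSubscheme Z) (kernel.condition _)).map
    (DCoh.tensorBi.obj L)
  have hS : S.ShortExact := hT
  haveI : Mono S.f := hT.mono_f
  let c : CohB1.tensorMod (ClSub.idealMod Z) L ≅ S.X₁ := ProjTwist.tensComm (ClSub.idealMod Z) L
  have hA : Coh.IsCoh S.X₁ := CohDev.isCoh_of_iso c hF
  have hQ : Coh.IsCoh (ClSub.quotMod Z) := EulerChar.isCoh_quotMod k Z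
  have hQs := (TopDimLib.topDim_le_of_subset (EulerChar.support_quotMod_subset Z)).trans hZ
  -- the skyscraper is nonzero
  have hQnt : Nontrivial ((Cyc.closureStructureSheaf x).presheaf.stalk x) := by
    rw [← not_subsingleton_iff_nontrivial]
    intro hsub
    have h1 := CohDev.length_stalk_oz x
    rw [Module.length_eq_zero] at h1
    exact zero_ne_one h1
  have hℓ : 0 < Module.finrank k (Coh.HH X (ClSub.quotMod Z) 0) := by
    by_contra h
    have hz := EulerChar.isZero_of_euler_eq_zero k hQ hQs (by
      rw [EulerChar.euler_eq_finrank_of_support k hQ hQs]; omega)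
    obtain ⟨a, b, hab⟩ := hQnt
    refine hab ?_
    haveI : Subsingleton ((ClSub.quotMod Z).presheaf.stalk x) := by
      have hid : (𝟙 (ClSub.quotMod Z)) = 0 := hz.eq_of_src _ _
      refine subsingleton_of_forall_eq 0 fun t => ?_
      obtain ⟨W, hxW, m, rfl⟩ := exists_germM_eq (ClSub.quotMod Z) x t
      have hm : m = 0 := congrArg (fun φ : ClSub.quotMod Z ⟶ ClSub.quotMod Z => φ.app W m) hid
      rw [hm]; exact map_zero _
    exact @Subsingleton.elim _ (show Subsingleton ((Cyc.closureStructureSheaf x).presheaf.stalk x) from this) a b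
  -- a section which is not a section of the ideal
  have hlt : Module.finrank k (Coh.HH X S.X₁ 0) < Module.finrank k (Coh.HH X S.X₂ 0) := by
    have hχB : (Curv2.euler k X S.X₂) ≤ Module.finrank k (Coh.HH X S.X₂ 0) :=
      EulerChar.euler_le_h0 k hdim (VBLib.isCoh_of_ofRank (ProjTwist.isFinLocFreeOfRank_one hB))
    have hχB' : Curv2.euler k X S.X₂ = Curv2.deg k X L 1 + 1 - Curv2.genus k X := hχ
    have hχA : Curv2.euler k X S.X₁ = Curv2.euler k X L - Module.finrank k (Coh.HH X (ClSub.quotMod Z) 0) := by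
      rw [← hFχ]; exact (EulerChar.euler_iso k c).symm
    have hdef : Curv2.euler k X L = Curv2.deg k X L 1 + 1 - Curv2.genus k X := by
      rw [Curv2.deg, euler_structure k hdim h0]; push_cast; ring
    by_cases h1 : Nontrivial (Coh.HH X S.X₁ 1)
    · have := @h0_le_genus_of_h1 X k _ _ _ _ hdim S.X₁ _ hA hB S.f hT.mono_f h1
      omega
    · haveI := not_nontrivial_iff_subsingleton.1 h1
      have h2 := euler_eq k hdim S.X₁
      rw [Module.finrank_zero_of_subsingleton (M := Coh.HH X S.X₁ 1)] at h2
      omega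
  obtain ⟨y, hy⟩ : ∃ y : Coh.HH X S.X₂ 0, CohLin.hMap S.g 0 y ≠ 0 := by
    by_contra! h
    haveI := EulerChar.finite_HH k _ hA 0
    have hsur : Function.Surjective (CohLin.overLin k (CohLin.hMap S.f 0)) := fun z =>
      CohLin.exists_hMap_f_eq hS z (h z)
    have := LinearMap.finrank_range_le (CohLin.overLin k (CohLin.hMap S.f 0))
    rw [LinearMap.range_eq_top.2 hsur, finrank_top] at this
    omega
  let σ : Γ(S.X₂, ⊤) := ProperFin.h0Sec _ y
  have hgσ : S.g.app ⊤ σ ≠ 0 := fun h => hy ((ProperFin.h0Sec S.X₃).injective (by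
    rw [ProperFin.h0Sec_hMap, map_zero]; exact h))
  have hsuppC : CohB1.support S.X₃ ⊆ {x} :=
    (CohDev.support_tens_subset L (ClSub.quotMod Z)).trans
      ((EulerChar.support_quotMod_subset Z).trans hZs.le)
  have hgerm : germM S.X₃ ⊤ x trivial (S.g.app ⊤ σ) ≠ 0 := fun h => hgσ (by
    refine TopCat.Presheaf.section_ext (⟨S.X₃.presheaf, S.X₃.isSheaf⟩ : TopCat.Sheaf Ab X) ⊤ _ _ fun z hz => ?_
    refine Eq.trans ?_ (map_zero (S.X₃.presheaf.germ ⊤ z hz).hom).symm
    by_cases hzx : z = x
    · subst hzx; exact h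
    · haveI : Subsingleton (S.X₃.presheaf.stalk z) := by
        by_contra hn
        exact hzx (hsuppC hn)
      exact @Subsingleton.elim _ this _ _)
  have hkill : ∀ r ∈ IsLocalRing.maximalIdeal (X.presheaf.stalk x), ∀ t : S.X₃.presheaf.stalk x, r • t = 0 := by
    intro r hr t
    let E := KFlat.StalkTensor.stalkTensorEquiv L (ClSub.quotMod Z) x
    refine E.injective ?_
    refine (E.map_smul r t).trans (Eq.trans ?_ (map_zero E).symm)
    suffices ∀ w : L.presheaf.stalk x ⊗[X.presheaf.stalk x] (ClSub.quotMod Z).presheaf.stalk x, r • w = 0 from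
      this _
    intro w
    induction w using TensorProduct.induction_on with
    | zero => exact smul_zero _
    | tmul a b =>
      rw [← TensorProduct.tmul_smul,
        show r • b = 0 from CohDev.smul_stalk_oz x hr b, TensorProduct.tmul_zero]
    | add a b ha hb => rw [smul_add, ha, hb, add_zero]
  obtain ⟨eB⟩ := EulerChar.stalk_ofRank (ProjTwist.isFinLocFreeOfRank_one hB) x
  refine EulerChar.exists_genLocus_of_span hB fun m => ?_
  set b : S.X₂.presheaf.stalk x := germM S.X₂ ⊤ x trivial σ with hbdef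
  have hb : stalkLin S.g x b ≠ 0 := by
    rw [hbdef, stalkLin_germ]; exact hgerm
  set N := Submodule.span (X.presheaf.stalk x) (Set.range fun τ : Γ(S.X₂, ⊤) ↦ germM S.X₂ ⊤ x trivial τ)
  have hN : N = ⊤ := by
    by_contra hN
    refine hb ?_
    have key : ∀ n : Fin 1 → X.presheaf.stalk x, (n 0 ∈ IsLocalRing.maximalIdeal (X.presheaf.stalk x)) →
        stalkLin S.g x (eB n) = 0 := fun n hn => by
      have hn' : n = n 0 • (fun _ => 1) := funext fun i => by simp [Subsingleton.elim i 0]
      rw [hn']
      refine (congrArg (stalkLin S.g x) (eB.map_smul (n 0) (fun _ => 1))).trans ?_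
      exact ((stalkLin S.g x).map_smul (n 0) _).trans (hkill _ hn _)
    obtain ⟨n, hn⟩ := eB.surjective b
    rw [← hn]
    refine key n ?_
    by_contra hu
    rw [IsLocalRing.mem_maximalIdeal, mem_nonunits_iff, not_not] at hu
    obtain ⟨u, hu⟩ := hu
    refine hN (eq_top_iff.2 fun z _ => ?_)
    obtain ⟨w, rfl⟩ := eB.surjective z
    have hw : w = (w 0 * ((u⁻¹ : (X.presheaf.stalk x)ˣ) : X.presheaf.stalk x)) • n := funext fun i => by
      simp [Subsingleton.elim i 0, mul_assoc, ← hu]
    have hb' : eB n ∈ N := hn ▸ Submodule.subset_span ⟨σ, rfl⟩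
    rw [hw]
    refine (eB.map_smul (w 0 * ((u⁻¹ : (X.presheaf.stalk x)ˣ) : X.presheaf.stalk x)) n).symm ▸ ?_
    exact N.smul_mem _ hb'
  exact hN.ge trivial

theorem isGloballyGenerated_of_deg_ge (hdim : topologicalKrullDim X = 1)
    (h0 : Module.finrank k (Coh.HH X (Coh.structureModule X) 0) = 1)
    {L : X.Modules} (hL : PicF.IsInvertible L)
    (hdeg : 2 * (Curv2.genus k X : ℤ) ≤ Curv2.deg k X L 1) :
    Curv2.IsGloballyGenerated L :=
  CMReg.isGloballyGenerated_iso
    (show CohDev.tens L (Coh.structureModule X) ≅ L from ProjTwist.tensOne L)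
    (Props.AmpleGG.isGloballyGenerated_of_genLocus (exists_genLocus_of_deg_ge k hdim h0 hL hdeg))

end Groth.Agent.CurveSimple
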