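import Groth.Agent.CurveSimple.Degree
import Groth.Agent.EulerChar.Cartier
import Groth.Agent.EulerChar.CurvePoint
import Groth.Agent.CohDev.Piece
import Groth.Agent.PicLaw.Basic
import Groth.Agent.S8914
import Groth.Agent.CurveDVR.Stalk

/-!
# Degrees of invertible modules of regular points of proper integral curves
-/

universe u

open CategoryTheory CategoryTheory.Limits AlgebraicGeometry TopologicalSpace
open Groth.Agent.CohDev Groth.Agent.PullStalk.Sky Groth.Agent.PullStalk.Exact

set_option linter.style.haveILetI false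
set_option linter.unusedSectionVars false
set_option synthInstance.maxHeartbeats 200000
set_option maxHeartbeats 1000000

attribute [local instance] Curv2.resAlgebra

noncomputable section

namespace Groth.Agent.CurveSimple

variable {X : Scheme.{u}} (k : Type u) [Field k] [X.Over (Spec (CommRingCat.of k))]
  [IsProper (X ↘ Spec (CommRingCat.of k))] [IsIntegral X]

/-- The sections of the structure sheaf of a closed point form its residue field. -/
theorem finrank_quotMod_point (x : X) (hxc : IsClosed ({x} : Set X)) :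
    Module.finrank k (Coh.HH X (ClSub.quotMod (IntMult.ptIdeal x)) 0) =
      Module.finrank k (X.residueField x) := by
  haveI := EulerChar.isNoetherian k (X := X)
  let Q : X.Modules := Cyc.closureStructureSheaf x
  show Module.finrank k (Coh.HH X Q 0) = _
  have hQ : Coh.IsCoh Q := CohDev.isCoh_oz x
  have hsupp : CohB1.support Q ⊆ {x} := (CohDev.support_oz_subset x).trans hxc.closure_eq.subset
  have hd : topologicalKrullDim ↥(CohB1.support Q) ≤ 0 :=
    (TopDimLib.topDim_le_of_subset hsupp).trans
      (EulerChar.topDim_le_zero_of_finite (Set.finite_singleton x) fun z hz => (Set.mem_singleton_iff.1 hz) ▸ hxc)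
  let Φ : Coh.HH X Q 0 →+ Q.presheaf.stalk x :=
    (Q.presheaf.germ ⊤ x trivial).hom.comp (ProperFin.h0Sec Q).toAddMonoidHom
  have hΦ : Function.Bijective Φ := by
    constructor
    · refine (injective_iff_map_eq_zero Φ).2 fun c hc => (ProperFin.h0Sec Q).injective ?_
      rw [map_zero]
      refine TopCat.Presheaf.section_ext (⟨Q.presheaf, Q.isSheaf⟩ : TopCat.Sheaf Ab X) ⊤ _ _ fun z hz => ?_
      refine Eq.trans ?_ (map_zero (Q.presheaf.germ ⊤ z hz).hom).symm
      by_cases hzx : z = x
      · subst hzx; exact hc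
      · haveI : Subsingleton (Q.presheaf.stalk z) := by
          by_contra hn
          exact hzx (hsupp hn)
        exact @Subsingleton.elim _ this _ _
    · intro t
      obtain ⟨W, hxW, n, rfl⟩ := exists_germM_eq Q x t
      obtain ⟨y, hy⟩ := (AddCommGrpCat.epi_iff_surjective _).1
        ((EulerChar.isFlasque_of_support k hQ hd).epi (homOfLE (le_top : W ≤ ⊤)).op) n
      refine ⟨(ProperFin.h0Sec Q).symm y, ?_⟩
      show germM Q ⊤ x trivial (ProperFin.h0Sec Q ((ProperFin.h0Sec Q).symm y)) = _
      rw [AddEquiv.apply_symm_apply, ← hy]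
      exact (Q.presheaf.germ_res_apply (homOfLE (le_top : W ≤ ⊤)) x hxW y).symm
  have hΦk : ∀ (a : k) (c : Coh.HH X Q 0), Φ (a • c) = Curv2.stalkMap k X x a • Φ c := fun a c => by
    show germM Q ⊤ x trivial (ProperFin.h0Sec Q (a • c)) = _
    rw [show (a • c : Coh.HH X Q 0) = Coh.toGlobal (X ↘ Spec (CommRingCat.of k)) a • c from rfl,
      ProperFin.h0Sec_smul, germM_smul]
    rfl
  -- the stalk is cyclic, killed by the maximal ideal
  obtain ⟨V, hV, hx, -⟩ := exists_isAffineOpen_mem_and_subset (X := X) (Opens.mem_top x)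
  let e : Q.presheaf.stalk x := germM Q V x hx (CohDev.ozGen x V)
  let φ := LinearMap.toSpanSingleton (X.presheaf.stalk x) _ e
  have hsurj : Function.Surjective φ := fun t => by
    obtain ⟨a, s, hs, hst⟩ := CohDev.germ_ozGen_generates x ⟨V, hV⟩ hx t
    obtain ⟨u, hu⟩ := hs
    refine ⟨((u⁻¹ : (X.presheaf.stalk x)ˣ) : X.presheaf.stalk x) * X.presheaf.germ V x hx a, ?_⟩
    change (((u⁻¹ : (X.presheaf.stalk x)ˣ) : X.presheaf.stalk x) * X.presheaf.germ V x hx a) • e = t
    rw [mul_smul, ← germM_smul, ← hst, ← hu, smul_smul, u.inv_mul, one_smul]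
  have hker : ∀ r, φ r = 0 ↔ X.residue x r = 0 := fun r => by
    have hres : X.residue x r = 0 ↔ r ∈ IsLocalRing.maximalIdeal (X.presheaf.stalk x) :=
      IsLocalRing.residue_eq_zero_iff r
    rw [hres]
    refine ⟨fun h => ?_, fun h => CohDev.smul_stalk_oz x h e⟩
    by_contra hu
    rw [IsLocalRing.mem_maximalIdeal, mem_nonunits_iff, not_not] at hu
    have h0 : ∀ t, φ t = 0 := fun t => by
      obtain ⟨u, rfl⟩ := hu
      have : t = (t * ((u⁻¹ : (X.presheaf.stalk x)ˣ) : X.presheaf.stalk x)) * (u : X.presheaf.stalk x) := by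
        rw [mul_assoc, u.inv_mul, mul_one]
      rw [this]
      exact (mul_smul (t * ((u⁻¹ : (X.presheaf.stalk x)ˣ) : X.presheaf.stalk x)) (u : X.presheaf.stalk x) e).trans
        (by rw [show (u : X.presheaf.stalk x) • e = 0 from h, smul_zero])
    have hl := CohDev.length_stalk_oz x
    haveI : Subsingleton (Q.presheaf.stalk x) := subsingleton_of_forall_eq 0 fun t => by
      obtain ⟨r, rfl⟩ := hsurj t
      exact h0 r
    rw [show Module.length (X.presheaf.stalk x) ((Cyc.closureStructureSheaf x).presheaf.stalk x) = 0 from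
      Module.length_eq_zero] at hl
    exact zero_ne_one hl
  let Φe := AddEquiv.ofBijective Φ hΦ
  choose g hg using X.residue_surjective x
  have key : ∀ r, Φe.symm (φ (g (X.residue x r))) = Φe.symm (φ r) := fun r => by
    rw [← sub_eq_zero, ← map_sub, ← map_sub, (hker _).2 (by rw [map_sub, hg, sub_self]), map_zero]
  let T : X.residueField x →ₗ[k] Coh.HH X Q 0 :=
    { toFun := fun z => Φe.symm (φ (g z))
      map_add' := fun a b => by
        obtain ⟨r, rfl⟩ := X.residue_surjective x a
        obtain ⟨s, rfl⟩ := X.residue_surjective x b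
        rw [← map_add, key, key, key, map_add, map_add]
      map_smul' := fun a z => by
        obtain ⟨r, rfl⟩ := X.residue_surjective x z
        rw [RingHom.id_apply, key,
          show a • X.residue x r = X.residue x (Curv2.stalkMap k X x a * r) from (map_mul (X.residue x).hom _ _).symm,
          key]
        apply Φe.injective
        rw [AddEquiv.apply_symm_apply]
        refine Eq.trans ?_ (hΦk a _).symm
        rw [show Φ (Φe.symm (φ r)) = φ r from Φe.apply_symm_apply _]
        exact mul_smul _ r e }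
  refine (LinearEquiv.ofBijective T ⟨?_, fun c => ?_⟩).finrank_eq.symm
  · rw [injective_iff_map_eq_zero]
    intro z hz
    obtain ⟨r, rfl⟩ := X.residue_surjective x z
    change Φe.symm (φ (g (X.residue x r))) = 0 at hz
    rw [key] at hz
    exact (hker r).1 (by simpa using hz)
  · obtain ⟨r, hr⟩ := hsurj (Φe c)
    exact ⟨X.residue x r, (key r).trans (by rw [hr, AddEquiv.symm_apply_apply])⟩

variable (hdim : topologicalKrullDim X = 1)
include hdim

/-- Degrees of invertible modules. -/
def degSet : AddSubgroup ℤ where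
  carrier := {d | ∃ M : X.Modules, PicF.IsInvertible M ∧ Curv2.deg k X M 1 = d}
  zero_mem' := ⟨Coh.structureModule X, PicLoc.isInvertible_structureModule X, by simp [Curv2.deg]⟩
  add_mem' := by
    rintro _ _ ⟨M, hM, rfl⟩ ⟨N, hN, rfl⟩
    refine ⟨CohDev.tens M N, AmpleLib.isInvertible_tensorMod hM hN, ?_⟩
    have h : Curv2.deg k X (CohDev.tens M N) (1 * 1) =
        (1 : ℕ) * Curv2.deg k X N 1 + (1 : ℕ) * Curv2.deg k X M 1 :=
      EulerChar.deg_tens k (ProjTwist.isFinLocFreeOfRank_one hM) hdim.le (ProjTwist.isFinLocFreeOfRank_one hN)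
    rw [Nat.one_mul] at h
    rw [h]; push_cast; ring
  neg_mem' := by
    rintro _ ⟨M, hM, rfl⟩
    obtain ⟨N, hN, ⟨e⟩⟩ := PicLaw.exists_inverse hM
    refine ⟨N, hN, ?_⟩
    have h : Curv2.deg k X (CohDev.tens M N) (1 * 1) =
        (1 : ℕ) * Curv2.deg k X N 1 + (1 : ℕ) * Curv2.deg k X M 1 :=
      EulerChar.deg_tens k (ProjTwist.isFinLocFreeOfRank_one hM) hdim.le (ProjTwist.isFinLocFreeOfRank_one hN)
    rw [Nat.one_mul, EulerChar.deg_iso k (show CohDev.tens M N ≅ Coh.structureModule X from e),
      show Curv2.deg k X (Coh.structureModule X) 1 = 0 by simp [Curv2.deg]] at h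
    push_cast at h
    linarith

/-- The degree of the module of a point with principal maximal ideal. -/
theorem residue_mem_degSet (x : X) (hxc : IsClosed ({x} : Set X))
    (hp : (IsLocalRing.maximalIdeal (X.presheaf.stalk x)).IsPrincipal) :
    (Module.finrank k (X.residueField x) : ℤ) ∈ degSet k hdim := by
  have hD := EulerChar.isEffCartier_ptIdeal k hdim hxc hp
  have hI := (S8914.result (IntMult.ptIdeal x)).2 hD
  obtain ⟨L, hL, ⟨e⟩⟩ := PicLaw.exists_inverse hI
  refine ⟨L, hL, ?_⟩
  rw [EulerChar.deg_inverse_ideal (IntMult.ptIdeal x) k hdim.le hD hL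
    (ProjTwist.tensComm L (ClSub.idealMod (IntMult.ptIdeal x)) ≪≫ e), finrank_quotMod_point k x hxc]

include k in
/-- Normal closed points have principal maximal ideals. -/
theorem isPrincipal_of_normal (x : X) (hxc : IsClosed ({x} : Set X))
    (hn : IsIntegrallyClosed (X.presheaf.stalk x)) :
    (IsLocalRing.maximalIdeal (X.presheaf.stalk x)).IsPrincipal := by
  haveI := EulerChar.isLocallyNoetherian k (X := X)
  have h1 : ringKrullDim (X.presheaf.stalk x) = 1 := by
    rw [ringKrullDim_stalk_eq_coheight, CurveDVR.coheight_eq_one (X ↘ Spec (CommRingCat.of k)) hdim hxc]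
    rfl
  haveI : IsDomain (X.presheaf.stalk x) :=
    Function.Injective.isDomain (algebraMap (X.presheaf.stalk x) X.functionField) (IsFractionRing.injective _ _)
  have hnf : ¬ IsField (X.presheaf.stalk x) := fun hf => by
    rw [ringKrullDim_eq_zero_of_isField hf] at h1
    exact zero_ne_one h1
  have hm0 : IsLocalRing.maximalIdeal (X.presheaf.stalk x) ≠ ⊥ :=
    IsLocalRing.isField_iff_maximalIdeal_eq.not.1 hnf
  refine ((IsDiscreteValuationRing.TFAE (X.presheaf.stalk x) hnf).out 3 4 rfl rfl).1 ⟨hn, ?_⟩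
  refine ⟨IsLocalRing.maximalIdeal _, ⟨hm0, inferInstance⟩, ?_⟩
  rintro P ⟨hP0, hP⟩
  by_contra hne
  have hlt : P < IsLocalRing.maximalIdeal _ := lt_of_le_of_ne (IsLocalRing.le_maximalIdeal hP.ne_top) hne
  let ser : LTSeries (PrimeSpectrum (X.presheaf.stalk x)) :=
    LTSeries.mk 2 ![⟨⊥, Ideal.isPrime_bot⟩, ⟨P, hP⟩, ⟨IsLocalRing.maximalIdeal _, inferInstance⟩]
      (Fin.strictMono_iff_lt_succ.2 fun i => by
        fin_cases i
        · exact (show (⟨⊥, Ideal.isPrime_bot⟩ : PrimeSpectrum (X.presheaf.stalk x)) < ⟨P, hP⟩ from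
            (show (⊥ : Ideal (X.presheaf.stalk x)) < P from bot_lt_iff_ne_bot.2 hP0))
        · exact hlt)
  have h2 := (Order.LTSeries.length_le_krullDim ser).trans_eq h1
  change ((2 : ℕ) : WithBot ℕ∞) ≤ 1 at h2
  norm_num at h2

end Groth.Agent.CurveSimple
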