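import Groth.Agent.CurveSimple.GlobGen
import Groth.Agent.EulerChar.FiniteMap
import Groth.Agent.ProjMorph.Base
import Groth.Agent.ProjMorph.Ample
import Groth.Agent.SepTang48.Chart
import Groth.Agent.FFCurve.P1Map
import Groth.Agent.S7830

/-!
# Morphisms given by complete linear series; curves with an invertible module of degree one and `h¹(O) = 0`
-/

universe u

open CategoryTheory CategoryTheory.Limits AlgebraicGeometry TopologicalSpace
open Groth.Agent.Props.GenLocus Groth.Agent.QCoh Groth.Agent.PullStalk.Sky Groth.Agent.AmpleLib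

set_option linter.style.haveILetI false
set_option linter.unusedSectionVars false
set_option synthInstance.maxHeartbeats 200000
set_option maxHeartbeats 1000000

noncomputable section

namespace Groth.Agent.CurveSimple

variable {X : Scheme.{u}} (k : Type u) [Field k] [X.Over (Spec (CommRingCat.of k))]
  [IsProper (X ↘ Spec (CommRingCat.of k))] [IsIntegral X]

/-- The global sections of a proper integral scheme are the constants when a degree is prime to them. -/
theorem h0_eq_one_of_deg_one (hdim : topologicalKrullDim X = 1) {L : X.Modules}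
    (hL : PicF.IsInvertible L) (hdeg : Curv2.deg k X L 1 = 1) :
    Module.finrank k (Coh.HH X (Coh.structureModule X) 0) = 1 := by
  -- `H⁰(O)` as a commutative ring `F`
  let ι : Γ(X, ⊤) →+* Coh.Γtop X :=
    { toFun := fun r => r, map_one' := rfl, map_mul' := fun _ _ => rfl, map_zero' := rfl,
      map_add' := fun _ _ => rfl }
  letI : Algebra k Γ(X, ⊤) := (ProjUP.toGlobal (X ↘ Spec (CommRingCat.of k))).toAlgebra
  letI hmod : ∀ (M : X.Modules) (i : ℕ), Module Γ(X, ⊤) (Coh.HH X M i) :=
    fun M i => Module.compHom _ ι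
  haveI htow : ∀ (M : X.Modules) (i : ℕ), IsScalarTower k Γ(X, ⊤) (Coh.HH X M i) := fun M i =>
    IsScalarTower.of_algebraMap_smul fun _ _ => rfl
  have hO := VBLib.isCoh_of_ofRank
    (ProjTwist.isFinLocFreeOfRank_one (PicLoc.isInvertible_structureModule X))
  haveI := EulerChar.finite_HH k (Coh.structureModule X) hO 0
  haveI : Nonempty (⊤ : X.Opens) := ⟨⟨genericPoint X, trivial⟩⟩
  let e₀ := ProperFin.h0Sec (Coh.structureModule X)
  let e : Coh.HH X (Coh.structureModule X) 0 ≃ₗ[Γ(X, ⊤)] Γ(X, ⊤) :=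
    { toFun := fun x => (e₀ x : Γ(X, ⊤))
      invFun := fun r => e₀.symm r
      left_inv := e₀.symm_apply_apply
      right_inv := e₀.apply_symm_apply
      map_add' := fun x y => map_add e₀ x y
      map_smul' := fun r x => ProperFin.h0Sec_smul (Coh.structureModule X) (ι r) x }
  haveI : Module.Finite k Γ(X, ⊤) := Module.Finite.equiv (e.restrictScalars k)
  haveI : IsDomain Γ(X, ⊤) := inferInstance
  have hF : IsField Γ(X, ⊤) := isField_of_isIntegral_of_isField' (R := k) (Field.toIsField k)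
  letI := hF.toField
  have hdvd : ∀ (M : X.Modules) (i : ℕ), (Module.finrank k Γ(X, ⊤) : ℤ) ∣
      (Module.finrank k (Coh.HH X M i) : ℤ) := fun M i =>
    Int.natCast_dvd_natCast.2
      ⟨_, (Module.finrank_mul_finrank k Γ(X, ⊤) (Coh.HH X M i)).symm⟩
  have hc : Module.finrank k Γ(X, ⊤) = Module.finrank k (Coh.HH X (Coh.structureModule X) 0) :=
    (e.restrictScalars k).finrank_eq.symm
  have h : ((Module.finrank k Γ(X, ⊤) : ℕ) : ℤ) ∣ 1 := by
    rw [← hdeg, Curv2.deg, euler_eq k hdim, euler_eq k hdim]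
    push_cast
    exact dvd_sub (dvd_sub (hdvd L 0) (hdvd L 1)) ((dvd_sub (hdvd _ 0) (hdvd _ 1)).mul_left 1)
  rw [← hc]
  exact Nat.dvd_one.1 (by exact_mod_cast h)

/-- A basis of the global sections generates where some section does. -/
theorem exists_generatedBy {B : X.Modules} {n : ℕ} [Module.Finite k (Coh.HH X B 0)]
    (hn : Module.finrank k (Coh.HH X B 0) = n + 1)
    (hgen : ∀ y : X, ∃ t : Coh.structureModule X ⟶ B, y ∈ CohB1.genLocus B t) :
    ∃ b : Module.Basis (Fin (n + 1)) k (Coh.HH X B 0),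
      ProjUP.GeneratedBy B fun i => ProperFin.h0Sec B (b i) := by
  let b := Module.finBasisOfFinrankEq k (Coh.HH X B 0) hn
  refine ⟨b, fun y => ?_⟩
  set N := Submodule.span (X.presheaf.stalk y)
    (Set.range fun i => (B.presheaf.germ ⊤ y trivial).hom (ProperFin.h0Sec B (b i)))
  have hmem : ∀ c : Coh.HH X B 0, germM B ⊤ y trivial (ProperFin.h0Sec B c) ∈ N := by
    intro c
    rw [← b.sum_repr c, map_sum]
    show (B.presheaf.germ ⊤ y trivial).hom (∑ i, ProperFin.h0Sec B (b.repr c i • b i)) ∈ N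
    rw [map_sum]
    refine Submodule.sum_mem _ fun i _ => ?_
    have e1 := ProperFin.h0Sec_smul B (Coh.toGlobal (X ↘ Spec (CommRingCat.of k)) (b.repr c i)) (b i)
    rw [show (b.repr c i • b i : Coh.HH X B 0) = Coh.toGlobal (X ↘ Spec (CommRingCat.of k)) (b.repr c i) • b i
      from rfl, e1]
    show germM B ⊤ y trivial _ ∈ N
    rw [germM_smul]
    exact Submodule.smul_mem _ _ (Submodule.subset_span ⟨i, rfl⟩)
  obtain ⟨t, ht⟩ := hgen y
  refine top_le_iff.1 fun m _ => ?_
  have hb := ((isGen_iff_isFrame _).mp (isGen_genLocus t)).stalkComb_bijective y ht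
  obtain ⟨a, ha⟩ := hb.2 m
  rw [← ha, LFFrame.stalkComb, Fintype.linearCombination_apply, Fin.sum_univ_one]
  refine Submodule.smul_mem _ _ ?_
  have := hmem ((ProperFin.h0Sec B).symm (sec t ⊤))
  rw [AddEquiv.apply_symm_apply] at this
  rw [← sec_res t (le_top : CohB1.genLocus B t ≤ ⊤)]
  exact (congrArg (· ∈ N) (B.presheaf.germ_res_apply
    (homOfLE (le_top : CohB1.genLocus B t ≤ ⊤)) y ht (sec t ⊤))).mpr this

/-- The morphism of a generated module. -/
theorem exists_morph {B : X.Modules} (hB : PicF.IsInvertible B) {n : ℕ} (s : Fin (n + 1) → ProjUP.Γm B)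
    (hs : ProjUP.GeneratedBy B s) :
    ∃ φ : X ⟶ CohB1.ProjSpace n k, φ ≫ CohB1.ProjSpace.toSpec n k = X ↘ Spec (CommRingCat.of k) ∧
      Nonempty ((Scheme.Modules.pullback φ).obj (Twist.twistProjSpace n k 1) ≅ B) ∧
      ∀ i, φ ⁻¹ᵁ SepTang48.D k n i = locus (O := ⊤) (s i) := by
  obtain ⟨r, τ, hr, hpre, -, -⟩ := ProjMorph.exists_to_proj (R := k)
    («𝒜» := CohB1.polyGrading n k) (MvPolynomial.X : Fin (n + 1) → MvPolynomial (Fin (n + 1)) k)
    (SepTang48.X_mem k n) MvPolynomial.adjoin_range_X (ProjUP.toGlobal (X ↘ Spec (CommRingCat.of k))) hB s hs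
    (fun i c _ => ⟨MvPolynomial.eval₂Hom ((QCoh.rres le_top).hom.comp
        (ProjUP.toGlobal (X ↘ Spec (CommRingCat.of k)))) c,
      RingHom.ext fun a => MvPolynomial.eval₂Hom_C _ _ a, fun j => MvPolynomial.eval₂Hom_X' _ _ _⟩)
  exact ⟨r, hr.trans (ProjMorph.toSpecΓ_toGlobal _), ⟨τ⟩, hpre⟩

theorem exists_iso_p1_of_deg_one (hdim : topologicalKrullDim X = 1)
    (h1 : Subsingleton (Coh.HH X (Coh.structureModule X) 1))
    {L : X.Modules} (hL : PicF.IsInvertible L) (hdeg : Curv2.deg k X L 1 = 1) :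
    ∃ e : X ≅ CohB1.ProjSpace 1 k,
      e.hom ≫ CohB1.ProjSpace.toSpec 1 k = X ↘ Spec (CommRingCat.of k) := by
  have h0 := h0_eq_one_of_deg_one k hdim hL hdeg
  have hg : Curv2.genus k X = 0 := Module.finrank_zero_of_subsingleton
  set B := CohDev.tens L (Coh.structureModule X)
  have hB : PicF.IsInvertible B := AmpleLib.isInvertible_tensorMod hL (PicLoc.isInvertible_structureModule X)
  have hBc := VBLib.isCoh_of_ofRank (ProjTwist.isFinLocFreeOfRank_one hB)
  have hχB : Curv2.euler k X B = Curv2.euler k X L := EulerChar.euler_iso k (ProjTwist.tensOne L)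
  have hdB : Curv2.deg k X B 1 = 1 := by rw [← hdeg, Curv2.deg, Curv2.deg, hχB]
  have hχ : Curv2.euler k X B = 2 := by
    have := hdB
    rw [Curv2.deg, euler_structure k hdim h0, hg] at this
    push_cast at this
    omega
  haveI := EulerChar.finite_HH k B hBc 0
  have hB1 : Subsingleton (Coh.HH X B 1) := by
    by_contra hn
    have := euler_lt_of_h1 k hdim hBc hB (𝟙 B) (not_subsingleton_iff_nontrivial.1 hn)
    omega
  have h2 : Module.finrank k (Coh.HH X B 0) = 1 + 1 := by
    have h := euler_eq k hdim B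
    rw [Module.finrank_zero_of_subsingleton (M := Coh.HH X B 1), hχ] at h
    omega
  obtain ⟨b, hb⟩ := exists_generatedBy k h2
    (exists_genLocus_of_deg_ge k hdim h0 hL (by rw [hg, hdeg]; norm_num))
  obtain ⟨φ, hφ, ⟨τ⟩, hpre⟩ := exists_morph k hB _ hb
  obtain ⟨hPp, hPs, hPi, hPd⟩ := FFCurve.p1_facts k
  haveI := hPi
  letI : (CohB1.ProjSpace 1 k).Over (Spec (CommRingCat.of k)) := ⟨CohB1.ProjSpace.toSpec 1 k⟩
  haveI : IsProper ((CohB1.ProjSpace 1 k) ↘ Spec (CommRingCat.of k)) := hPp
  haveI : Smooth ((CohB1.ProjSpace 1 k) ↘ Spec (CommRingCat.of k)) := hPs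
  haveI := hPp
  -- the morphism is not constant
  have hξ : φ.base (genericPoint X) = genericPoint (CohB1.ProjSpace 1 k) := by
    by_contra hne
    have hcl := VarDim.isClosed_singleton_of_ne_genericPoint (X := CohB1.ProjSpace 1 k) k hPd hne
    have hall : ∀ x : X, φ x = φ (genericPoint X) := fun x => by
      have hx : x ∈ φ ⁻¹' {φ (genericPoint X)} := by
        refine (hcl.preimage φ.continuous).closure_subset_iff.2 (Set.singleton_subset_iff.2 rfl) ?_
        rw [(genericPoint_spec X).def]; trivial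
      exact hx
    obtain ⟨i, hi⟩ := Opens.mem_iSup.1
      ((SepTang48.iSup_D k 1).ge (trivial : φ (genericPoint X) ∈ (⊤ : (CohB1.ProjSpace 1 k).Opens)))
    have htop : locus (O := ⊤) (ProperFin.h0Sec B (b i)) = ⊤ := by
      rw [← hpre i]
      exact eq_top_iff.2 fun x _ => show φ x ∈ SepTang48.D k 1 i from (hall x).symm ▸ hi
    have hg' : IsGen B ⊤ (ProperFin.h0Sec B (b i)) := by
      have h := (isGen_locus (M := B) (O := ⊤) (ProperFin.h0Sec B (b i))).restrict (htop.ge)
      rwa [res_res, res_self] at h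
    obtain ⟨e⟩ := ProjMorph.exists_iso_of_gen_top hg'
    rw [Curv2.deg, ← EulerChar.euler_iso k e] at hdB
    push_cast at hdB
    omega
  -- of degree one
  have hr : φ.residueDegree (genericPoint X) = 1 := by
    have h := EulerChar.deg_pullback φ hφ hdim hPd hξ
      (ProjTwist.isFinLocFreeOfRank_one (L := Twist.twistProjSpace 1 k 1)
        (ProjTwist.isInvertible_twistProjSpace 1 k 1))
    rw [EulerChar.deg_iso k τ, hdB] at h
    have hdvd : ((φ.residueDegree (genericPoint X) : ℕ) : ℤ) ∣ 1 := ⟨_, h⟩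
    exact Nat.dvd_one.1 (by exact_mod_cast hdvd)
  have hfY : IsField ((CohB1.ProjSpace 1 k).presheaf.stalk (φ (genericPoint X))) := by
    rw [show φ (genericPoint X) = genericPoint (CohB1.ProjSpace 1 k) from hξ]
    exact Field.toIsField (CohB1.ProjSpace 1 k).functionField
  have hiso : IsIso (φ.stalkMap (genericPoint X)) := by
    rw [ConcreteCategory.isIso_iff_bijective]
    letI := hfY.toField
    refine ⟨RingHom.injective _, fun z => ?_⟩
    letI := (φ.residueFieldMap (genericPoint X)).hom.toAlgebra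
    obtain ⟨c, hc⟩ := (finrank_eq_one_iff_of_nonzero' (1 : X.residueField (genericPoint X)) one_ne_zero).1
      hr (X.residue (genericPoint X) z)
    obtain ⟨c', rfl⟩ := (CohB1.ProjSpace 1 k).residue_surjective _ c
    refine ⟨c', (RingHom.injective (R := X.functionField) (X.residue (genericPoint X)).hom) ?_⟩
    rw [← hc, Algebra.smul_def, mul_one]
    exact (ConcreteCategory.congr_hom (Scheme.residue_residueFieldMap φ (genericPoint X)) c').symm
  have hN : Pi1.IsNormalScheme (CohB1.ProjSpace 1 k) := fun x => by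
    haveI := CurveCoh.isDomain_stalk k (CohB1.ProjSpace 1 k) x
    haveI := (FFCurve.regCurve_of_smooth (X := CohB1.ProjSpace 1 k) k hPd).val x
    exact ⟨inferInstance, inferInstance⟩
  haveI := S7830.result k (X ↘ Spec (CommRingCat.of k)) (CohB1.ProjSpace.toSpec 1 k) hdim hPd hN φ hφ hξ hiso
  exact ⟨asIso φ, hφ⟩

end Groth.Agent.CurveSimple
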