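import Groth.Agent.CurveSimple.PointDeg
import Groth.Agent.CurveSimple.ToP1
import Groth.Agent.GeomPts.Basic
import Groth.Agent.GrpScheme.SepPoint
import Groth.Agent.S1550
import Groth.Agent.S1556
import Groth.Agent.S1549
import Groth.Agent.StFib.FlatBaseLocus

/-!
# Smooth separable closed points of curves
-/

universe u

open CategoryTheory CategoryTheory.Limits AlgebraicGeometry TopologicalSpace IsLocalRing

set_option linter.style.haveILetI false
set_option linter.unusedSectionVars false

attribute [local instance] Curv2.resAlgebra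

noncomputable section

namespace Groth.Agent.CurveSimple

variable {X : Scheme.{u}} (k : Type u) [Field k] [X.Over (Spec (CommRingCat.of k))]

/-- A nonempty smooth open contains a closed point with finite separable residue field. -/
theorem exists_sep_closed_point [LocallyOfFiniteType (X ↘ Spec (CommRingCat.of k))] (U : X.Opens)
    [Smooth (U.ι ≫ (X ↘ Spec (CommRingCat.of k)))] (hU : (U : Set X).Nonempty) :
    ∃ x ∈ U, IsClosed ({x} : Set X) ∧ FiniteDimensional k (X.residueField x) ∧
      Algebra.IsSeparable k (X.residueField x) := by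
  obtain ⟨x₀, hx₀⟩ := hU
  set f := X ↘ Spec (CommRingCat.of k)
  let Ks := SeparableClosure k
  let σ := Spec.map (CommRingCat.ofHom (algebraMap k Ks))
  have : Surjective σ := ⟨fun y => ⟨closedPoint Ks, Subsingleton.elim _ _⟩⟩
  let g := U.ι ≫ f
  have : Surjective (pullback.fst g σ) := inferInstance
  obtain ⟨z, -⟩ := (pullback.fst g σ).surjective ⟨x₀, hx₀⟩
  have : Nonempty ↥(pullback g σ) := ⟨z⟩
  obtain ⟨s, hs⟩ := Groth.Agent.GrpScheme.SepPoint.exists_point (pullback.snd g σ)
  let t := (s ≫ pullback.fst g σ) ≫ U.ι
  have ht : t ≫ f = σ := by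
    simp only [t, Category.assoc]
    rw [pullback.condition, ← Category.assoc, hs, Category.id_comp]
  obtain ⟨⟨x, φ⟩, hxφ⟩ := (Scheme.SpecToEquivOfField Ks X).symm.surjective t
  change Spec.map φ ≫ X.fromSpecResidueField x = t at hxφ
  have hxU : x ∈ U := by
    have h1 : t (closedPoint Ks) = x := by
      rw [← hxφ]
      exact Scheme.fromSpecResidueField_apply x _
    rw [← h1]
    exact ((s ≫ pullback.fst g σ) (closedPoint Ks)).2
  have hφ : φ.hom.comp (Curv2.resMap k X x) = algebraMap k Ks := by
    have h2 : CommRingCat.ofHom (Curv2.resMap k X x) ≫ φ = CommRingCat.ofHom (algebraMap k Ks) := by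
      apply Spec.map_injective
      rw [Spec.map_comp, ← S1550.fromSpecResidueField_over, ← Category.assoc, hxφ]
      exact ht
    exact congrArg CommRingCat.Hom.hom h2
  let φa : X.residueField x →ₐ[k] Ks :=
    { φ.hom with commutes' := fun r => RingHom.congr_fun hφ r }
  have hsep : Algebra.IsSeparable k (X.residueField x) := Algebra.IsSeparable.of_algHom k Ks φa
  have : Algebra.EssFiniteType k (X.residueField x) := by
    have h3 := Groth.Agent.GeomPts.essFiniteType_residueField f x
    rw [S1550.fromSpecResidueField_over, Spec.preimage_map] at h3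
    exact RingHom.essFiniteType_algebraMap.mp h3
  have hfin : FiniteDimensional k (X.residueField x) := Algebra.finite_of_essFiniteType_of_isAlgebraic
  refine ⟨x, hxU, ?_, hfin, hsep⟩
  have : JacobsonSpace X := LocallyOfFiniteType.jacobsonSpace f
  have : LocallyOfFiniteType (X.fromSpecResidueField x ≫ f) := by
    rw [S1550.fromSpecResidueField_over, HasRingHomProperty.Spec_iff (P := @LocallyOfFiniteType)]
    exact RingHom.finiteType_algebraMap.mpr inferInstance
  exact isClosed_singleton_iff_locallyOfFiniteType.mpr (locallyOfFiniteType_of_comp _ f)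

variable [IsProper (X ↘ Spec (CommRingCat.of k))] [IsIntegral X]

/-- A geometrically reduced curve has a separable closed point with principal maximal ideal. -/
theorem exists_sep_principal_point [GeometricallyReduced (X ↘ Spec (CommRingCat.of k))]
    (hdim : topologicalKrullDim X = 1) :
    ∃ x : X, IsClosed ({x} : Set X) ∧ Algebra.IsSeparable k (X.residueField x) ∧
      FiniteDimensional k (X.residueField x) ∧
      (IsLocalRing.maximalIdeal (X.presheaf.stalk x)).IsPrincipal := by
  haveI := EulerChar.isLocallyNoetherian k (X := X)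
  haveI : LocallyOfFinitePresentation (X ↘ Spec (CommRingCat.of k)) := inferInstance
  obtain ⟨U, hUd, hUs⟩ := (S1549.result k X).1 inferInstance
  haveI := hUs
  obtain ⟨x, hxU, hxc, hfin, hsep⟩ := exists_sep_closed_point k U hUd.nonempty
  haveI := hsep
  have hx := StFib.le_smoothLocus (X ↘ Spec (CommRingCat.of k)) U hxU
  haveI := (S1556.result k X hdim x hxc).2 hx
  exact ⟨x, hxc, hsep, hfin, inferInstance⟩

/-- Over a separably closed field a geometrically reduced curve carries a module of degree one. -/
theorem exists_deg_one [IsSepClosed k] [GeometricallyReduced (X ↘ Spec (CommRingCat.of k))]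
    (hdim : topologicalKrullDim X = 1) :
    ∃ L : X.Modules, PicF.IsInvertible L ∧ Curv2.deg k X L 1 = 1 := by
  obtain ⟨x, hxc, hsep, hfin, hp⟩ := exists_sep_principal_point (X := X) k hdim
  have h1 : Module.finrank k (X.residueField x) = 1 := by
    refine finrank_eq_one (1 : X.residueField x) one_ne_zero fun u => ?_
    obtain ⟨c, hc⟩ := IsSepClosed.algebraMap_surjective k (X.residueField x) u
    exact ⟨c, by rw [← hc, Algebra.smul_def, mul_one]⟩
  obtain ⟨L, hL, hd⟩ := residue_mem_degSet k hdim x hxc hp
  exact ⟨L, hL, hd.trans (by rw [h1]; rfl)⟩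

/-- An integral genus zero curve with a separable point of degree one is the line. -/
theorem exists_iso_p1_of_sepClosed [IsSepClosed k] [GeometricallyReduced (X ↘ Spec (CommRingCat.of k))]
    (hdim : topologicalKrullDim X = 1) (hg : Curv2.genus k X = 0) :
    ∃ e : X ≅ CohB1.ProjSpace 1 k,
      e.hom ≫ CohB1.ProjSpace.toSpec 1 k = X ↘ Spec (CommRingCat.of k) := by
  obtain ⟨L, hL, hd⟩ := exists_deg_one (X := X) k hdim
  haveI := EulerChar.finite_HH k (Coh.structureModule X) (VBLib.isCoh_of_ofRank
    (ProjTwist.isFinLocFreeOfRank_one (PicLoc.isInvertible_structureModule X))) 1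
  exact exists_iso_p1_of_deg_one k hdim (Module.finrank_zero_iff.1 hg) hL hd

end Groth.Agent.CurveSimple
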