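import Groth.Agent.CurveSimple.Special
import Groth.Agent.FormalFun.HomLift
import Groth.Agent.S0007
import Groth.Agent.CycLib.ModStalk
import Groth.Agent.KoszSh77.Unit
import Groth.Agent.Props.GenPull
import Groth.Agent.ProperFin.FinEx
import Groth.Agent.ProperFin.FiniteMap
import Groth.Agent.QCoh.Exact
import Groth.Agent.QCoh.Pullback

/-!
# Restricting sections to subschemes of length at most two
-/

universe u

open CategoryTheory CategoryTheory.Limits AlgebraicGeometry TopologicalSpace
open Groth.Agent.Props.GenLocus Groth.Agent.QCoh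

set_option linter.style.haveILetI false
set_option linter.unusedSectionVars false
set_option synthInstance.maxHeartbeats 200000
set_option maxHeartbeats 1000000
set_option backward.isDefEq.respectTransparency false
set_option backward.isDefEq.respectTransparency.types false

noncomputable section

namespace Groth.Agent.CurveSimple

variable {X : Scheme.{u}} (k : Type u) [Field k] [X.Over (Spec (CommRingCat.of k))]
  [IsProper (X ↘ Spec (CommRingCat.of k))] [IsIntegral X] (hdim : topologicalKrullDim X = 1)
/-- The condition that submodules of codimension at most two have no more first cohomology: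
equivalently sections surject onto quotients of length at most two. -/
def IsTwoNonspecial (L : X.Modules) : Prop :=
  ∀ (F : X.Modules) (i : F ⟶ L), Mono i → Coh.IsCoh F →
    Curv2.euler k X L ≤ Curv2.euler k X F + 2 →
      Module.finrank k (Coh.HH X F 1) ≤ Module.finrank k (Coh.HH X L 1)

include hdim

/-- Degree at least `2g+1` gives the condition. -/
theorem isTwoNonspecial_of_deg_ge (h0 : Module.finrank k (Coh.HH X (Coh.structureModule X) 0) = 1)
    {L : X.Modules} (hL : PicF.IsInvertible L)
    (hdeg : 2 * (Curv2.genus k X : ℤ) + 1 ≤ Curv2.deg k X L 1) : IsTwoNonspecial k L := by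
  intro F i hi hF hχ
  suffices h : Subsingleton (Coh.HH X F 1) by
    rw [Module.finrank_zero_of_subsingleton]; exact Nat.zero_le _
  by_contra hn
  haveI := hi
  have h := euler_lt_of_h1 k hdim hF hL i (not_subsingleton_iff_nontrivial.1 hn)
  have hdef : Curv2.euler k X L = Curv2.deg k X L 1 + 1 - Curv2.genus k X := by
    rw [Curv2.deg, euler_structure k hdim h0]; push_cast; ring
  omega

/-- Global sections surject onto a closed subscheme spanned by two elements over the base field. -/
theorem exists_restrict_eq {L : X.Modules} (hL : PicF.IsInvertible L) (hns : IsTwoNonspecial k L)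
    {Z : Scheme.{u}} (i : Z ⟶ X) [IsClosedImmersion i] {U : X.Opens} (hU : IsAffineOpen U)
    (hZU : i ⁻¹ᵁ U = ⊤) {e : Γ(L, U)} (he : IsGen L U e) (v : Fin 2 → Γ(X, U))
    (hv : ∀ b : Γ(X, U), ∃ c : Fin 2 → k,
      i.app U b = ∑ j, i.app U (rres le_top (ProperFin.glob k X (c j)) * v j))
    (b : Γ(X, U)) :
    ∃ (τ : Γ(L, ⊤)) (a : Γ(X, U)), res L le_top τ = a • e ∧ i.app U a = i.app U b := by
  haveI := EulerChar.isNoetherian k (X := X)
  let Q : X.Modules := (Scheme.Modules.pushforward i).obj ((Scheme.Modules.pullback i).obj L)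
  let u : L ⟶ Q := (Scheme.Modules.pullbackPushforwardAdjunction i).unit.app L
  haveI hu : Epi u := KoszSh77.epi_unit i L
  haveI : IsLocallyNoetherian Z := LocallyOfFiniteType.isLocallyNoetherian i
  have hLc := VBLib.isCoh_of_ofRank (ProjTwist.isFinLocFreeOfRank_one hL)
  have hiL := PicCl.isInvertible_pullback i hL
  have hQc : Coh.IsCoh Q := ProperFin.isCoh_push_of_isFinite i _
    (VBLib.isCoh_of_ofRank (ProjTwist.isFinLocFreeOfRank_one hiL))
  haveI : L.IsQuasicoherent := hLc.1
  haveI : Q.IsQuasicoherent := hQc.1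
  let S := ShortComplex.mk (kernel.ι u) u (kernel.condition u)
  have hS : S.ShortExact := { exact := ShortComplex.exact_of_f_is_kernel _ (kernelIsKernel u) }
  have hKc : Coh.IsCoh (kernel u) := CohDev.isCoh_kernel u hLc hQc.1
  -- restriction to `U` is bijective on the quotient
  have hbij : Function.Bijective (res Q (le_top : U ≤ ⊤)) := by
    have hle : i ⁻¹ᵁ (⊤ : X.Opens) ≤ i ⁻¹ᵁ U := by rw [hZU]; exact le_top
    let r := res ((Scheme.Modules.pullback i).obj L) hle
    have e1 : ∀ x, r (res Q (le_top : U ≤ ⊤) x) = x := fun x => by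
      show res _ hle (res _ (i.preimage_mono (le_top : U ≤ ⊤)) x) = x
      rw [res_res, res_self]
    have e2 : ∀ x, res Q (le_top : U ≤ ⊤) (r x) = x := fun x => by
      show res _ (i.preimage_mono (le_top : U ≤ ⊤)) (res _ hle x) = x
      rw [res_res, res_self]
    exact ⟨Function.LeftInverse.injective e1, Function.RightInverse.surjective e2⟩
  have hsurjU : Function.Surjective (u.app U) := QCoh.app_surjective_of_epi u hU
  -- the images of the two spanning sections
  choose w hw using fun j => hbij.2 (u.app U (v j • e))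
  have hspan : ∀ q : Γ(Q, ⊤), ∃ c : Fin 2 → k, q = ∑ j, ProperFin.glob k X (c j) • w j := by
    intro q
    obtain ⟨m, hm⟩ := hsurjU (res Q le_top q)
    obtain ⟨a, ha, -⟩ := he.exists_eq le_rfl m
    rw [res_self] at ha
    obtain ⟨c, hc⟩ := hv a
    refine ⟨c, hbij.1 ?_⟩
    rw [← hm, ha, map_sum, Scheme.Modules.Hom.app_smul]
    have hsm : ∀ (r : Γ(X, U)) (x : Γ(Q, U)), r • x =
        (show Γ(Q, U) from i.app U r • (show Γ((Scheme.Modules.pullback i).obj L, i ⁻¹ᵁ U) from x)) :=
      fun _ _ => rfl
    rw [hsm, hc, Finset.sum_smul]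
    refine Finset.sum_congr rfl fun j _ => ?_
    rw [res_smul, hw, Scheme.Modules.Hom.app_smul, hsm (v j), hsm, map_mul, mul_smul]
  haveI := EulerChar.finite_HH k Q hQc 0
  have hfin : Module.finrank k (Coh.HH X Q 0) ≤ 2 := by
    let Φ : (Fin 2 → k) →ₗ[k] Coh.HH X Q 0 :=
      Fintype.linearCombination k fun j => (ProperFin.h0Sec Q).symm (w j)
    have hsur : Function.Surjective Φ := fun x => by
      obtain ⟨c, hc⟩ := hspan (ProperFin.h0Sec Q x)
      refine ⟨c, (ProperFin.h0Sec Q).injective ?_⟩
      rw [hc, Fintype.linearCombination_apply, map_sum]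
      refine Finset.sum_congr rfl fun j _ => ?_
      refine (ProperFin.h0Sec_smul Q (Coh.toGlobal (X ↘ Spec (CommRingCat.of k)) (c j))
        ((ProperFin.h0Sec Q).symm (w j))).trans ?_
      rw [AddEquiv.apply_symm_apply]
      rfl
    have h := LinearMap.finrank_range_le Φ
    rwa [LinearMap.range_eq_top.2 hsur, finrank_top, Module.finrank_pi, Fintype.card_fin] at h
  have hχ : Curv2.euler k X L ≤ Curv2.euler k X (kernel u) + 2 := by
    have h1 := EulerChar.euler_add' k (kernel.ι u) u (kernel.condition u) hS hKc hLc hQc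
    have h2 := euler_eq k hdim Q
    omega
  have hle := hns (kernel u) (kernel.ι u) inferInstance hKc hχ
  -- the quotient has no first cohomology, so the map on first cohomology is bijective
  haveI : Subsingleton (Coh.HH X Q 1) := by
    haveI : IsAffine Z := by
      have h : IsAffineOpen (i ⁻¹ᵁ U) := hU.preimage i
      rw [hZU] at h
      haveI : IsAffine (⊤ : Z.Opens).toScheme := h
      exact IsAffine.of_isIso (Scheme.topIso Z).inv
    haveI : Coh.IsQCoh ((Scheme.Modules.pullback i).obj L) := ProjTwist.isQCoh_of_isInvertible hiL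
    exact FormalFun.subsingleton_HH_push i _ 1 (S0007.result Z _ 1 one_pos)
  haveI := EulerChar.finite_HH k (kernel u) hKc 1
  haveI := EulerChar.finite_HH k L hLc 1
  let φ := CohLin.overLin k (CohLin.hMap (kernel.ι u) 1)
  have hsur : Function.Surjective φ := fun x =>
    CohLin.exists_hMap_f_eq hS x (Subsingleton.elim _ _)
  have heq : Module.finrank k (Coh.HH X (kernel u) 1) = Module.finrank k (Coh.HH X L 1) :=
    le_antisymm hle (φ.finrank_le_finrank_of_surjective hsur)
  have hinj : Function.Injective φ := (LinearMap.injective_iff_surjective_of_finrank_eq_finrank heq).2 hsur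
  -- surjectivity on global sections
  obtain ⟨q, hq⟩ := hbij.2 (u.app U (b • e))
  obtain ⟨y, hy⟩ := CohLin.exists_hMap_g_eq hS ((ProperFin.h0Sec Q).symm q)
    (hinj ((CohLin.hMap_f_hδ hS _).trans (map_zero φ).symm))
  obtain ⟨a, ha, -⟩ := he.exists_eq le_rfl (res L le_top (ProperFin.h0Sec L y))
  rw [res_self] at ha
  refine ⟨ProperFin.h0Sec L y, a, ha, ?_⟩
  have hy' : u.app ⊤ (ProperFin.h0Sec L y) = q := by
    have h := congrArg (ProperFin.h0Sec Q) hy
    rw [AddEquiv.apply_symm_apply] at h
    exact (ProperFin.h0Sec_hMap u y).symm.trans h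
  have hnat : res Q (le_top : U ≤ ⊤) (u.app ⊤ (ProperFin.h0Sec L y)) =
      u.app U (res L le_top (ProperFin.h0Sec L y)) :=
    (congrArg (fun φ : Γ(L, ⊤) ⟶ Γ(Q, U) => φ (ProperFin.h0Sec L y))
      (u.mapPresheaf.naturality (homOfLE (le_top : U ≤ ⊤)).op)).symm
  rw [hy', hq, ha] at hnat
  have h3 : i.app U b • Props.GenPull.pb i e = i.app U a • Props.GenPull.pb i e := by
    refine Eq.trans ?_ (hnat.trans ?_)
    · exact (LFFrame.unitSec_smul i L U b e).symm
    · exact LFFrame.unitSec_smul i L U a e
  exact ((Props.GenPull.isGen_pb i he).injective le_rfl (by rw [res_self]; exact h3)).symm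

end Groth.Agent.CurveSimple
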