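import Groth.Agent.CurveSimple.Degree
import Groth.Agent.EulerChar.CurveVanish
import Groth.Agent.EulerChar.Cartier
import Groth.Agent.EulerChar.Restrict
import Groth.Agent.ProjTwist.Tensor

/-!
# Special rank one torsion-free modules on proper integral curves

No duality is used: if `H¹(F) ≠ 0` for a submodule `F` of an invertible module, then multiplication
`H⁰(F) → Hom(H¹(O), H¹(F)) → H¹(O)^*` is injective.
-/

universe u

open CategoryTheory CategoryTheory.Limits AlgebraicGeometry TopologicalSpace
open Groth.Agent.Props.GenLocus Groth.Agent.CohDev Groth.Agent.PullStalk.Sky Groth.Agent.PullStalk.Exact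

set_option linter.style.haveILetI false
set_option linter.unusedSectionVars false

set_option synthInstance.maxHeartbeats 200000
set_option maxHeartbeats 1000000

noncomputable section

namespace Groth.Agent.CurveSimple

variable {X : Scheme.{u}} (k : Type u) [Field k] [X.Over (Spec (CommRingCat.of k))]
  [IsProper (X ↘ Spec (CommRingCat.of k))] [IsIntegral X] (hdim : topologicalKrullDim X = 1)

omit [IsProper (X ↘ Spec (CommRingCat.of k))] [IsIntegral X] in
/-- A global function acts on `O` as the scalar. -/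
theorem abMap_homOfSec (r : Γ(X, ⊤)) :
    CohLin.abMap (homOfSec (L := Coh.structureModule X) r) =
      Coh.smulAb (Coh.structureModule X) (show Coh.Γtop X from r) := by
  refine ObjectProperty.hom_ext _ (NatTrans.ext (funext fun V => ?_))
  ext m
  let m' : Γ(Coh.structureModule X, V.unop) := m
  let c : Γ(X, V.unop) := Coh.resTop X V (show Coh.Γtop X from r)
  change (homOfSec (L := Coh.structureModule X) r).app V.unop m' = c • m'
  refine (app_eq (homOfSec (L := Coh.structureModule X) r) V.unop m').trans ?_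
  rw [sec_homOfSec]
  exact mul_comm (show Γ(X, V.unop) from m') _

omit [IsProper (X ↘ Spec (CommRingCat.of k))] [IsIntegral X] in
/-- Multiplication of `H¹(O)` by global sections. -/
def mulSec (F : X.Modules) :
    Coh.HH X F 0 →ₗ[k] (Coh.HH X (Coh.structureModule X) 1 →ₗ[k] Coh.HH X F 1) where
  toFun c := CohLin.overLin k (CohLin.hMap (homOfSec (ProperFin.h0Sec F c)) 1)
  map_add' c d := LinearMap.ext fun x => by
    show CohLin.hMap _ 1 x = CohLin.hMap _ 1 x + CohLin.hMap _ 1 x
    rw [map_add, EulerChar.homOfSec_add]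
    exact CohLin.hMap_add _ _ 1 x
  map_smul' a c := LinearMap.ext fun x => by
    let r : Coh.Γtop X := Coh.toGlobal (X ↘ Spec (CommRingCat.of k)) a
    show CohLin.hMap (homOfSec (ProperFin.h0Sec F (r • c))) 1 x =
      r • CohLin.hMap (homOfSec (ProperFin.h0Sec F c)) 1 x
    rw [ProperFin.h0Sec_smul, EulerChar.homOfSec_smul]
    exact EulerChar.hMap_comp_scal _ _ r (abMap_homOfSec r) 1 x

include hdim

/-- A submodule of an invertible module with `H¹ ≠ 0` has at most `g` sections. -/
theorem h0_le_genus_of_h1 {F P : X.Modules} (hF : Coh.IsCoh F) (hP : PicF.IsInvertible P) (i : F ⟶ P)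
    [Mono i] (h1 : Nontrivial (Coh.HH X F 1)) :
    Module.finrank k (Coh.HH X F 0) ≤ Curv2.genus k X := by
  haveI := EulerChar.isNoetherian k (X := X)
  haveI := EulerChar.finite_HH k (Coh.structureModule X)
    (VBLib.isCoh_of_ofRank (ProjTwist.isFinLocFreeOfRank_one (PicLoc.isInvertible_structureModule X))) 1
  obtain ⟨v, hv⟩ := exists_ne (0 : Coh.HH X F 1)
  obtain ⟨ℓ, hℓ⟩ : ∃ ℓ : Module.Dual k (Coh.HH X F 1), ℓ v ≠ 0 := by
    by_contra! h
    haveI : Module.Free k (Coh.HH X F 1) := Module.Free.of_divisionRing k _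
    exact hv ((Module.forall_dual_apply_eq_zero_iff (R := k) v).1 h)
  let Ψ : Coh.HH X F 0 →ₗ[k] Module.Dual k (Coh.HH X (Coh.structureModule X) 1) :=
    (LinearMap.llcomp k _ _ _ ℓ).comp (mulSec k F)
  have hinj : Function.Injective Ψ := by
    rw [injective_iff_map_eq_zero]
    intro c hc
    by_contra hc0
    set φ := homOfSec (ProperFin.h0Sec F c) with hφdef
    have hφ : φ ≠ 0 := fun h0 => hc0 ((ProperFin.h0Sec F).injective (by
      rw [map_zero]
      have h1 := sec_homOfSec (ProperFin.h0Sec F c) ⊤
      rw [show homOfSec (ProperFin.h0Sec F c) = 0 from h0, QCoh.res_self] at h1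
      exact h1.symm.trans rfl))
    have hφi : φ ≫ i ≠ 0 := fun h => hφ ((cancel_mono i).1 (h.trans Limits.zero_comp.symm))
    have hb := EulerChar.bijective_stalk_generic (PicLoc.isInvertible_structureModule X) hP (φ ≫ i) hφi
    have hcomp : ⇑(stalkLin (φ ≫ i) (genericPoint X)) =
        ⇑(stalkLin i (genericPoint X)) ∘ ⇑(stalkLin φ (genericPoint X)) :=
      funext fun t => CohDev.stalkLin_comp_apply φ i (genericPoint X) t
    rw [hcomp] at hb
    have hgen : Function.Bijective (stalkLin φ (genericPoint X)) :=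
      ⟨hb.1.of_comp, fun y => (hb.2 (stalkLin i _ y)).imp fun x hx =>
        CohDev.stalk_injective i (genericPoint X) hx⟩
    obtain ⟨w, hw⟩ := EulerChar.surjective_h1_of_generic k hdim φ
      (VBLib.isCoh_of_ofRank (ProjTwist.isFinLocFreeOfRank_one (PicLoc.isInvertible_structureModule X))) hF
      hgen v
    refine hℓ ?_
    rw [← hw]
    exact LinearMap.congr_fun hc w
  exact (LinearMap.finrank_le_finrank_of_injective hinj).trans_eq Subspace.dual_finrank_eq

/-- Such a module has Euler characteristic below the genus. -/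
theorem euler_lt_of_h1 {F P : X.Modules} (hF : Coh.IsCoh F) (hP : PicF.IsInvertible P) (i : F ⟶ P)
    [Mono i] (h1 : Nontrivial (Coh.HH X F 1)) :
    Curv2.euler k X F < Curv2.genus k X := by
  haveI := EulerChar.finite_HH k F hF 1
  have h := h0_le_genus_of_h1 k hdim hF hP i h1
  have h' : 0 < Module.finrank k (Coh.HH X F 1) := Module.finrank_pos_iff.2 h1
  rw [euler_eq k hdim]
  omega

theorem euler_structure (h0 : Module.finrank k (Coh.HH X (Coh.structureModule X) 0) = 1) :
    Curv2.euler k X (Coh.structureModule X) = 1 - (Curv2.genus k X : ℤ) := by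
  rw [euler_eq k hdim, h0, Curv2.genus]; simp

omit hdim in
/-- An ideal times an invertible module. -/
theorem ideal_tensor {L : X.Modules} (hL : PicF.IsInvertible L) (Z : X.IdealSheafData)
    (hZ : topologicalKrullDim (Z.support : Set X) ≤ 0) :
    Coh.IsCoh (CohB1.tensorMod (ClSub.idealMod Z) L) ∧
      (∃ i : CohB1.tensorMod (ClSub.idealMod Z) L ⟶ L, Mono i) ∧
      Curv2.euler k X (CohB1.tensorMod (ClSub.idealMod Z) L) =
        Curv2.euler k X L - Module.finrank k (Coh.HH X (ClSub.quotMod Z) 0) := by
  haveI := EulerChar.isNoetherian k (X := X)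
  have hO := VBLib.isCoh_of_ofRank
    (ProjTwist.isFinLocFreeOfRank_one (PicLoc.isInvertible_structureModule X))
  have hI : Coh.IsCoh (ClSub.idealMod Z) :=
    CohDev.isCoh_kernel (ClSub.toSubscheme Z) hO (QCoh.isQuasicoherent_pushforward Z.subschemeι _)
  have hQ : Coh.IsCoh (ClSub.quotMod Z) := EulerChar.isCoh_quotMod k Z
  have hL1 := ProjTwist.isFinLocFreeOfRank_one hL
  have hT := CohDev.tens_shortExact hL1 (EulerChar.shortExact_ideal Z)
  have hs := (TopDimLib.topDim_le_of_subset (EulerChar.support_quotMod_subset Z)).trans hZ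
  have hsum : Curv2.euler k X (CohDev.tens L (Coh.structureModule X)) =
      Curv2.euler k X (CohDev.tens L (ClSub.idealMod Z)) + Curv2.euler k X (CohDev.tens L (ClSub.quotMod Z)) :=
    EulerChar.euler_add_map k (DCoh.tensorBi.obj L) (ClSub.idealModι Z) (ClSub.toSubscheme Z)
      (kernel.condition _) hT (CohDev.isCoh_tens hL1 hI) (CohDev.isCoh_tens hL1 hO) (CohDev.isCoh_tens hL1 hQ)
  let c : CohB1.tensorMod (ClSub.idealMod Z) L ≅ CohDev.tens L (ClSub.idealMod Z) :=
    ProjTwist.tensComm (ClSub.idealMod Z) L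
  let o : CohDev.tens L (Coh.structureModule X) ≅ L := ProjTwist.tensOne L
  refine ⟨CohDev.isCoh_of_iso c.symm (CohDev.isCoh_tens hL1 hI), ?_, ?_⟩
  · haveI : Mono ((DCoh.tensorBi.obj L).map (ClSub.idealModι Z)) := hT.mono_f
    exact ⟨c.hom ≫ (DCoh.tensorBi.obj L).map (ClSub.idealModι Z) ≫ o.hom, inferInstance⟩
  · rw [EulerChar.euler_iso k c, ← EulerChar.euler_iso k o, hsum,
      EulerChar.euler_tens_of_support k hL1 hQ hs, EulerChar.euler_eq_finrank_of_support k hQ hs]
    simp

end Groth.Agent.CurveSimple
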