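import Groth.Agent.CurveSimple.SmallSub
import Groth.Agent.SepTang48.Chart
import Groth.Agent.ProjMorph.VeryAmple
import Mathlib.RingTheory.Artinian.Ring

/-!
# An embedding criterion over algebraically closed fields
-/

universe u

open CategoryTheory CategoryTheory.Limits AlgebraicGeometry TopologicalSpace
open Groth.Agent.Props.GenLocus Groth.Agent.QCoh

set_option linter.style.haveILetI false
set_option linter.unusedSectionVars false
set_option synthInstance.maxHeartbeats 200000
set_option maxHeartbeats 1000000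
set_option backward.isDefEq.respectTransparency false
set_option backward.isDefEq.respectTransparency.types false

noncomputable section

namespace Groth.Agent.CurveSimple

variable {X : Scheme.{u}} (K : Type u) [Field K] [X.Over (Spec (CommRingCat.of K))]
  [IsProper (X ↘ Spec (CommRingCat.of K))] [IsIntegral X] (hdim : topologicalKrullDim X = 1)

include K in
/-- A closed subscheme cut out by an ideal of finite colength on an affine open. -/
theorem exists_sub_of_ideal {U : X.Opens} (hU : IsAffineOpen U) (H : Ideal Γ(X, U))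
    (hfin : ∀ P : Ideal Γ(X, U), P.IsPrime → H ≤ P → P.IsMaximal)
    (hfin' : Finite (PrimeSpectrum (Γ(X, U) ⧸ H))) :
    ∃ (Z : Scheme.{u}) (j : Z ⟶ X), IsClosedImmersion j ∧ j ⁻¹ᵁ U = ⊤ ∧
      ∀ b b' : Γ(X, U), j.app U b = j.app U b' ↔ b - b' ∈ H := by
  haveI : JacobsonSpace X := LocallyOfFiniteType.jacobsonSpace (X ↘ Spec (CommRingCat.of K))
  let π : Γ(X, U) ⟶ CommRingCat.of (Γ(X, U) ⧸ H) := CommRingCat.ofHom (Ideal.Quotient.mk H)
  haveI : IsClosedImmersion (Spec.map π) :=
    IsClosedImmersion.spec_of_surjective π Ideal.Quotient.mk_surjective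
  let j := Spec.map π ≫ hU.fromSpec
  have hmem : ∀ z, j z ∈ U := fun z => by
    have := Set.mem_range_self (f := hU.fromSpec) (Spec.map π z)
    rwa [hU.range_fromSpec] at this
  have hjU : j ⁻¹ᵁ U = ⊤ := eq_top_iff.2 fun z _ => hmem z
  have hclosed : ∀ z, IsClosed ({j z} : Set X) := fun z => by
    refine isClosed_singleton_of_isLocallyClosed_singleton ?_
    let q : Spec Γ(X, U) := Spec.map π z
    have hq : q.asIdeal.IsMaximal := hfin _ q.2 fun h hh => by
      show π h ∈ z.asIdeal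
      rw [show π h = 0 from Ideal.Quotient.eq_zero_iff_mem.2 hh]
      exact zero_mem _
    rw [show ({j z} : Set X) = hU.fromSpec '' {q} from (Set.image_singleton (f := hU.fromSpec) (a := q)).symm]
    exact ((PrimeSpectrum.isClosed_singleton_iff_isMaximal q).mpr hq).isLocallyClosed.image
      hU.fromSpec.isOpenEmbedding.isInducing
      hU.fromSpec.isOpenEmbedding.isOpen_range.isLocallyClosed
  haveI : Finite (Spec (CommRingCat.of (Γ(X, U) ⧸ H))) := hfin'
  haveI : IsClosedImmersion j := IsClosedImmersion.of_isPreimmersion j (by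
    rw [show Set.range j = ⋃ z, {j z} from (Set.iUnion_singleton_eq_range _).symm]
    exact isClosed_iUnion_of_finite hclosed)
  refine ⟨_, j, inferInstance, hjU, fun b b' => ?_⟩
  have key : j.appLE U ⊤ hjU.ge =
      π ≫ (Scheme.ΓSpecIso (CommRingCat.of (Γ(X, U) ⧸ H))).inv := by
    rw [Scheme.ΓSpecIso_inv_naturality]
    have h1 : hU.fromSpec.appLE U ⊤ (by rw [hU.fromSpec_preimage_self]) = (Scheme.ΓSpecIso Γ(X, U)).inv := by
      rw [Scheme.Hom.appLE, hU.fromSpec_app_self, Category.assoc, ← Functor.map_comp]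
      refine (congrArg ((Scheme.ΓSpecIso Γ(X, U)).inv ≫ ·) ?_).trans (Category.comp_id _)
      exact (congrArg _ (Subsingleton.elim _ _)).trans ((Spec Γ(X, U)).presheaf.map_id _)
    rw [← h1, Scheme.Hom.appTop, Scheme.Hom.app_eq_appLE]
    exact (Scheme.Hom.appLE_comp_appLE (Spec.map π) hU.fromSpec U ⊤ ⊤ _ _).symm
  have hinj : ∀ x y : Γ(Spec (CommRingCat.of (Γ(X, U) ⧸ H)), j ⁻¹ᵁ U),
      (Spec (CommRingCat.of (Γ(X, U) ⧸ H))).presheaf.map (homOfLE hjU.ge).op x =
        (Spec (CommRingCat.of (Γ(X, U) ⧸ H))).presheaf.map (homOfLE hjU.ge).op y → x = y := by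
    haveI : IsIso (homOfLE hjU.ge) := ⟨homOfLE hjU.le, Subsingleton.elim _ _, Subsingleton.elim _ _⟩
    exact (ConcreteCategory.bijective_of_isIso _).1
  have happ : ∀ x : Γ(X, U), (Spec (CommRingCat.of (Γ(X, U) ⧸ H))).presheaf.map (homOfLE hjU.ge).op (j.app U x) =
      (Scheme.ΓSpecIso (CommRingCat.of (Γ(X, U) ⧸ H))).inv (Ideal.Quotient.mk H x) := fun x =>
    congr($key x)
  rw [← Ideal.Quotient.eq]
  constructor
  · intro h
    have := (happ b).symm.trans ((congrArg _ h).trans (happ b'))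
    exact (ConcreteCategory.bijective_of_isIso (Scheme.ΓSpecIso (CommRingCat.of (Γ(X, U) ⧸ H))).inv).1 this
  · intro h
    exact hinj _ _ ((happ b).trans ((congrArg _ h).trans (happ b').symm))

include hdim in
/-- A finite map linear on an invertible module without special length two quotients is a closed immersion. -/
theorem isClosedImmersion_of_lin [IsAlgClosed K] {Y : Scheme.{u}} [Y.Over (Spec (CommRingCat.of K))]
    [LocallyOfFiniteType (Y ↘ Spec (CommRingCat.of K))] (φ : X ⟶ Y) [IsFinite φ]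
    (hφ : φ ≫ (Y ↘ Spec (CommRingCat.of K)) = X ↘ Spec (CommRingCat.of K))
    {L : X.Modules} (hL : PicF.IsInvertible L) (hns : IsTwoNonspecial K L)
    {ι : Type*} (D : ι → Y.Opens) (hD : ∀ i, IsAffineOpen (D i)) (hcov : iSup D = ⊤)
    (e : ∀ i, Γ(L, φ ⁻¹ᵁ D i)) (he : ∀ i, IsGen L (φ ⁻¹ᵁ D i) (e i))
    (hlin : ∀ (τ : Γ(L, ⊤)) (i : ι), ∃ g : Γ(Y, D i), res L le_top τ = φ.app (D i) g • e i) :
    IsClosedImmersion φ := by
  rw [IsZariskiLocalAtTarget.iff_of_iSup_eq_top (P := @IsClosedImmersion) _ hcov]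
  intro i
  have hU : IsAffineOpen (φ ⁻¹ᵁ D i) := (hD i).preimage φ
  haveI : IsAffine (D i).toScheme := hD i
  haveI : IsAffine (φ ⁻¹ᵁ D i).toScheme := hU
  refine IsClosedImmersion.of_surjective_of_isAffine _
    (ProjMorph.surjective_appTop_morphismRestrict φ (D i) ?_)
  let f := (φ.app (D i)).hom
  let κ : K →+* Γ(Y, D i) := (rres (le_top : D i ≤ ⊤)).hom.comp (ProperFin.glob K Y)
  have hκ : κ.FiniteType := by
    have h : κ = ((Scheme.ΓSpecIso (CommRingCat.of K)).inv ≫
        (Y ↘ Spec (CommRingCat.of K)).appLE ⊤ (D i) le_top).hom := rfl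
    rw [h, CommRingCat.hom_comp]
    exact ((Y ↘ Spec (CommRingCat.of K)).finiteType_appLE (isAffineOpen_top _) (hD i) le_top).comp
      (RingHom.FiniteType.of_surjective _
        (ConcreteCategory.bijective_of_isIso (Scheme.ΓSpecIso (CommRingCat.of K)).inv).2)
  have hfin : f.Finite := IsFinite.finite_app φ _ (hD i)
  have hB : (f.comp κ).FiniteType := hfin.finiteType.comp hκ
  have hfκ : ∀ c, f (κ c) = rres (le_top : φ ⁻¹ᵁ D i ≤ ⊤) (ProperFin.glob K X c) := fun c => by
    show φ.app (D i) (rres le_top (ProperFin.glob K Y c)) = _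
    rw [Props.GenPull.app_rres, ProperFin.toGlobal_comp φ hφ c]
    rfl
  haveI : IsNoetherianRing Γ(X, φ ⁻¹ᵁ D i) := by
    letI := (f.comp κ).toAlgebra
    haveI : Algebra.FiniteType K Γ(X, φ ⁻¹ᵁ D i) := hB
    exact Algebra.FiniteType.isNoetherianRing K _
  -- every element is congruent to the image of the base modulo a small ideal
  have main : ∀ (H : Ideal Γ(X, φ ⁻¹ᵁ D i)) (v : Fin 2 → Γ(X, φ ⁻¹ᵁ D i)),
      (∀ b, ∃ c : Fin 2 → K, b - ∑ j, f (κ (c j)) * v j ∈ H) →
      ∀ b, ∃ g : Γ(Y, D i), b - f g ∈ H := by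
    intro H v hv b
    letI := (f.comp κ).toAlgebra
    haveI hmf : Module.Finite K (Γ(X, φ ⁻¹ᵁ D i) ⧸ H) := by
      refine Module.Finite.of_surjective (Fintype.linearCombination K fun j => Ideal.Quotient.mk H (v j)) fun x => ?_
      obtain ⟨y, rfl⟩ := Ideal.Quotient.mk_surjective x
      obtain ⟨c, hc⟩ := hv y
      refine ⟨c, ?_⟩
      rw [(Ideal.Quotient.mk_eq_mk_iff_sub_mem _ _).2 hc, Fintype.linearCombination_apply, map_sum]
      refine Finset.sum_congr rfl fun j _ => ?_
      rw [map_mul, Algebra.smul_def]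
      rfl
    haveI : IsArtinianRing (Γ(X, φ ⁻¹ᵁ D i) ⧸ H) := IsArtinianRing.of_finite K _
    obtain ⟨Z, j, hj, hjU, hjH⟩ := exists_sub_of_ideal (X := X) K hU H (fun P hP hle => by
      haveI := hP
      haveI : (P.map (Ideal.Quotient.mk H)).IsPrime :=
        Ideal.map_isPrime_of_surjective Ideal.Quotient.mk_surjective (by rwa [Ideal.mk_ker])
      haveI := IsArtinianRing.isMaximal_of_isPrime (P.map (Ideal.Quotient.mk H))
      rw [← sup_eq_left.2 hle, ← Ideal.comap_map_mk hle, sup_eq_left.2 (by rw [Ideal.comap_map_mk hle]; exact hle)]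
      exact Ideal.comap_isMaximal_of_surjective _ Ideal.Quotient.mk_surjective) inferInstance
    haveI := hj
    obtain ⟨τ, a, ha, hab⟩ := exists_restrict_eq K hdim hL hns j hU hjU (he i) v (fun y => by
      obtain ⟨c, hc⟩ := hv y
      refine ⟨c, ?_⟩
      rw [← map_sum]
      refine (hjH _ _).2 ?_
      simpa only [← hfκ] using hc) b
    obtain ⟨g, hg⟩ := hlin τ i
    have hga : a = f g := (he i).injective le_rfl (by rw [res_self]; exact ha.symm.trans hg)
    refine ⟨g, (hjH _ _).1 ?_⟩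
    rw [← hga, hab]
  have hres : ∀ (M : Ideal Γ(X, φ ⁻¹ᵁ D i)), M.IsMaximal → ∀ g, ∃ c : K, g - κ c ∈ M.comap f := by
    intro M hM g
    obtain ⟨c, hc⟩ := SepTang48.residue_trivial (f.comp κ) hB M (f g)
    exact ⟨c, by rw [Ideal.mem_comap, map_sub]; exact hc⟩
  refine SepTang48.surjective_of_separates κ f hfin hB (fun M M' hM hM' hMM => ?_) fun M hM => ?_
  · by_contra hne
    obtain ⟨μ, hμ, μ', hμ', h1⟩ := Submodule.mem_sup.1
      (show (1 : Γ(X, φ ⁻¹ᵁ D i)) ∈ M ⊔ M' from (hM.coprime_of_ne hM' hne).symm ▸ Submodule.mem_top)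
    have hv : ∀ b, ∃ c : Fin 2 → K, b - ∑ j, f (κ (c j)) * ![μ', μ] j ∈ M ⊓ M' := fun b => by
      obtain ⟨c, hc⟩ := SepTang48.residue_trivial (f.comp κ) hB M b
      obtain ⟨c', hc'⟩ := SepTang48.residue_trivial (f.comp κ) hB M' b
      refine ⟨![c, c'], ?_⟩
      have e : b - ∑ j, f (κ (![c, c'] j)) * ![μ', μ] j = (b - f (κ c)) * μ' + (b - f (κ c')) * μ := by
        simp only [Fin.sum_univ_two, Matrix.cons_val_zero, Matrix.cons_val_one]
        linear_combination (-b) * h1
      rw [e]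
      exact ⟨M.add_mem (M.mul_mem_right _ hc) (M.mul_mem_left _ hμ),
        M'.add_mem (M'.mul_mem_left _ hμ') (M'.mul_mem_right _ hc')⟩
    obtain ⟨g, hg⟩ := main _ _ hv μ
    obtain ⟨c, hc⟩ := hres M hM g
    have hc' : f (g - κ c) ∈ M' := by rw [← Ideal.mem_comap, ← hMM]; exact hc
    rw [Ideal.mem_comap, map_sub] at hc
    rw [map_sub] at hc'
    have hcM : f (κ c) ∈ M := by
      have := M.sub_mem (M.sub_mem hμ hg.1) hc
      simpa using this
    have hc0 : c = 0 := by
      by_contra h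
      exact hM.ne_top (Ideal.eq_top_of_isUnit_mem _ hcM ((isUnit_iff_ne_zero.2 h).map (f.comp κ)))
    rw [hc0, map_zero, map_zero, sub_zero] at hc'
    refine hM'.ne_top ((Ideal.eq_top_iff_one _).2 ?_)
    rw [← h1]
    exact M'.add_mem (by simpa using M'.add_mem hg.2 hc') hμ'
  · set J := (M.comap f).map f ⊔ M ^ 2
    by_contra hMJ
    have hJM : J ≤ M := sup_le Ideal.map_comap_le (Ideal.pow_le_self two_ne_zero)
    obtain ⟨H, ⟨hJH, hHM⟩, hmax⟩ := set_has_maximal_iff_noetherian.2 inferInstance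
      {H : Ideal Γ(X, φ ⁻¹ᵁ D i) | J ≤ H ∧ H < M} ⟨J, le_rfl, lt_of_le_of_ne hJM fun h => hMJ h.ge⟩
    obtain ⟨μ, hμ, hμH⟩ := SetLike.exists_of_lt hHM
    have hspan : H ⊔ Ideal.span {μ} = M := by
      by_contra h
      refine hmax _ ⟨hJH.trans le_sup_left, lt_of_le_of_ne (sup_le hHM.le ((Ideal.span_singleton_le_iff_mem M).2 hμ)) h⟩ ?_
      exact lt_of_le_of_ne le_sup_left fun e =>
        hμH (e ▸ Ideal.mem_sup_right (Ideal.mem_span_singleton_self μ))
    have hsq : ∀ x ∈ M, x * μ ∈ H := fun x hx =>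
      hJH (Ideal.mem_sup_right (by rw [pow_two]; exact Ideal.mul_mem_mul hx hμ))
    have hv : ∀ b, ∃ c : Fin 2 → K, b - ∑ j, f (κ (c j)) * ![1, μ] j ∈ H := fun b => by
      obtain ⟨c, hc⟩ := SepTang48.residue_trivial (f.comp κ) hB M b
      rw [← hspan] at hc
      obtain ⟨h, hh, y, hy, hhy⟩ := Submodule.mem_sup.1 hc
      obtain ⟨r, rfl⟩ := Ideal.mem_span_singleton'.1 hy
      obtain ⟨c', hc'⟩ := SepTang48.residue_trivial (f.comp κ) hB M r
      refine ⟨![c, c'], ?_⟩
      have e : b - ∑ j, f (κ (![c, c'] j)) * ![1, μ] j = h + (r - f (κ c')) * μ := by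
        simp only [Fin.sum_univ_two, Matrix.cons_val_zero, Matrix.cons_val_one, mul_one]
        linear_combination (norm := skip) -hhy
        simp only [RingHom.comp_apply]; ring
      rw [e]
      exact H.add_mem hh (hsq _ hc')
    obtain ⟨g, hg⟩ := main _ _ hv μ
    obtain ⟨c, hc⟩ := hres M hM g
    have hc1 : f g - f (κ c) ∈ H := by
      rw [← map_sub]
      exact hJH (Ideal.mem_sup_left (Ideal.mem_map_of_mem f hc))
    have h2 : μ - f (κ c) ∈ H := by simpa using H.add_mem hg hc1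
    have hcM : f (κ c) ∈ M := by simpa using M.sub_mem hμ (hHM.le h2)
    have hc0 : c = 0 := by
      by_contra h
      exact hM.ne_top (Ideal.eq_top_of_isUnit_mem _ hcM ((isUnit_iff_ne_zero.2 h).map (f.comp κ)))
    rw [hc0, map_zero, map_zero, sub_zero] at h2
    exact hμH h2

end Groth.Agent.CurveSimple
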